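import Groth.Agent.H10Coh.FinType
import Groth.Agent.H11Tilde.QCohCrit
import Groth.Agent.H11Tilde.Local
import Groth.Agent.H11Tilde.ModLoc
import Groth.Agent.H29Fitt.FreeLocal
import Mathlib.LinearAlgebra.Basis.Basic

/-!
# Sections restricting to bases (light import version of `H28Pinch.FreeBasis`)
-/

set_option autoImplicit false
set_option linter.style.haveILetI false

universe u

open CategoryTheory CategoryTheory.Limits AlgebraicGeometry Opposite TopologicalSpace

namespace Groth.Agent.H26Base.BasisLite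

variable {X Y : Scheme.{u}}

/-- The combination over a smaller open set. -/
noncomputable def comb (F : X.Modules) {U : X.Opens} {r : ℕ} (m : Fin r → Γ(F, U))
    {V : X.Opens} (h : V ≤ U) (c : Fin r → Γ(X, V)) : Γ(F, V) :=
  ∑ j, c j • F.presheaf.map (homOfLE h).op (m j)

/-- Sections restricting to bases on all smaller open sets. -/
def IsBasisOn (F : X.Modules) {U : X.Opens} {r : ℕ} (m : Fin r → Γ(F, U)) : Prop :=
  ∀ (V : X.Opens) (h : V ≤ U), Function.Bijective (comb F m h)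

variable {F : X.Modules} {U : X.Opens} {r : ℕ} {m : Fin r → Γ(F, U)}

theorem res_comb {V V' : X.Opens} (h : V ≤ U) (h' : V' ≤ V) (c : Fin r → Γ(X, V)) :
    F.presheaf.map (homOfLE h').op (comb F m h c) =
      comb F m (h'.trans h) (fun j => X.presheaf.map (homOfLE h').op (c j)) := by
  rw [comb, comb, map_sum]
  refine Finset.sum_congr rfl fun j _ => ?_
  rw [Scheme.Modules.map_smul]
  exact congrArg _ (H10Coh.mres_mres F h h' (m j))

theorem isBasisOn_of_locally
    (H : ∀ x ∈ U, ∃ N : X.Opens, x ∈ N ∧ ∀ (V : X.Opens) (h : V ≤ U), IsAffineOpen V → V ≤ N →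
      Function.Bijective (comb F m h)) : IsBasisOn F m := by
  intro V hV
  choose N hxN hN using H
  choose A hA hxA hAN hAV using fun x : V => show ∃ A : X.Opens, IsAffineOpen A ∧ x.1 ∈ A ∧
      A ≤ N x.1 (hV x.2) ∧ A ≤ V by
    obtain ⟨_, ⟨A, hA : IsAffineOpen A, rfl⟩, hxA, hle⟩ :=
      X.isBasis_affineOpens.exists_subset_of_mem_open
        (show x.1 ∈ N x.1 (hV x.2) ⊓ V from ⟨hxN _ _, x.2⟩) (N x.1 (hV x.2) ⊓ V).isOpen
    exact ⟨A, hA, hxA, fun y hy => (hle hy).1, fun y hy => (hle hy).2⟩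
  have hb : ∀ x : V, Function.Bijective (comb F m ((hAV x).trans hV)) := fun x =>
    hN _ (hV x.2) _ _ (hA x) (hAN x)
  have hcov : V ≤ iSup A := fun x hx => Opens.mem_iSup.2 ⟨⟨x, hx⟩, hxA ⟨x, hx⟩⟩
  have inj : ∀ (W : X.Opens) (hW : W ≤ U), Function.Injective (comb F m hW) := by
    intro W hW c c' e
    funext j
    choose B hB hxB hBN hBW using fun x : W => show ∃ B : X.Opens, IsAffineOpen B ∧ x.1 ∈ B ∧
        B ≤ N x.1 (hW x.2) ∧ B ≤ W by
      obtain ⟨_, ⟨B, hB : IsAffineOpen B, rfl⟩, hxB, hle⟩ :=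
        X.isBasis_affineOpens.exists_subset_of_mem_open
          (show x.1 ∈ N x.1 (hW x.2) ⊓ W from ⟨hxN _ _, x.2⟩) (N x.1 (hW x.2) ⊓ W).isOpen
      exact ⟨B, hB, hxB, fun y hy => (hle hy).1, fun y hy => (hle hy).2⟩
    refine TopCat.Sheaf.eq_of_locally_eq' X.sheaf B W (fun x => homOfLE (hBW x))
      (fun x hx => Opens.mem_iSup.2 ⟨⟨x, hx⟩, hxB ⟨x, hx⟩⟩) _ _ fun x => ?_
    have he := congrArg (F.presheaf.map (homOfLE (hBW x)).op) e
    rw [res_comb, res_comb] at he
    exact congrFun ((hN _ (hW x.2) _ _ (hB x) (hBN x)).1 he) j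
  refine ⟨inj V hV, fun s => ?_⟩
  choose c hc using fun x : V => (hb x).2 (F.presheaf.map (homOfLE (hAV x)).op s)
  have hcompat : ∀ x y : V,
      (fun j => X.presheaf.map (homOfLE (inf_le_left : A x ⊓ A y ≤ A x)).op (c x j)) =
        fun j => X.presheaf.map (homOfLE (inf_le_right : A x ⊓ A y ≤ A y)).op (c y j) := by
    intro x y
    refine inj _ ((inf_le_left.trans (hAV x)).trans hV) ?_
    have hx := congrArg (F.presheaf.map (homOfLE (inf_le_left : A x ⊓ A y ≤ A x)).op) (hc x)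
    have hy := congrArg (F.presheaf.map (homOfLE (inf_le_right : A x ⊓ A y ≤ A y)).op) (hc y)
    rw [res_comb, H10Coh.mres_mres] at hx hy
    exact hx.trans hy.symm
  choose d₀ hd₀ using fun j : Fin r => (X.sheaf.existsUnique_gluing' A V
    (fun x => homOfLE (hAV x)) hcov (fun x => c x j) (fun x y => congrFun (hcompat x y) j)).exists
  let d : Fin r → Γ(X, V) := d₀
  have hd : ∀ (j : Fin r) (x : V), X.presheaf.map (homOfLE (hAV x)).op (d j) = c x j := hd₀
  refine ⟨d, TopCat.Sheaf.eq_of_locally_eq' (Coh.toAb F) A V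
    (fun x => homOfLE (hAV x)) hcov _ _ fun x => ?_⟩
  show F.presheaf.map (homOfLE (hAV x)).op (comb F m hV d) =
    F.presheaf.map (homOfLE (hAV x)).op s
  rw [res_comb, ← hc x]
  exact congrArg _ (funext fun j => hd j x)

/-- A free chart has such a basis. -/
theorem exists_isBasisOn_of_chart (F : X.Modules) {U : X.Opens} {r : ℕ}
    (e : F.restrict U.ι ≅ FlatMod.freeMod (↑U) r) :
    ∃ m : Fin r → Γ(F, U), IsBasisOn F m := by
  have htop : U ≤ U.ι ''ᵁ ⊤ := le_of_eq (by rw [Scheme.Hom.image_top_eq_opensRange,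
    Scheme.Opens.opensRange_ι])
  let E := fun W : (↑U : Scheme.{u}).Opens =>
    (F.restrictAppIso U.ι W).hom.hom.comp (e.inv.app W).hom
  refine ⟨fun j => F.presheaf.map (homOfLE htop).op (E ⊤ (H29Fitt.gen (↑U) r j ⊤)), fun V hle => ?_⟩
  obtain ⟨W, rfl⟩ : ∃ W : (↑U : Scheme.{u}).Opens, U.ι ''ᵁ W = V := ⟨U.ι ⁻¹ᵁ V, by
    rw [Scheme.Hom.image_preimage_eq_opensRange_inf, Scheme.Opens.opensRange_ι]
    exact inf_eq_right.2 hle⟩
  have hE : Function.Bijective (E W) :=
    (ConcreteCategory.bijective_of_isIso (F.restrictAppIso U.ι W).hom).comp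
      (ConcreteCategory.bijective_of_isIso (e.inv.app W))
  have hEs : ∀ (a : Γ(↑U, W)) (y : Γ(FlatMod.freeMod (↑U) r, W)),
      E W (a • y) = (U.ι.appIso W).inv a • E W y := fun a y => by
    change (F.restrictAppIso U.ι _).hom (e.inv.app _ (a • y)) = _
    rw [Scheme.Modules.Hom.app_smul]
    rfl
  have hm : ∀ j, F.presheaf.map (homOfLE hle).op
      (F.presheaf.map (homOfLE htop).op (E ⊤ (H29Fitt.gen (↑U) r j ⊤))) =
        E W (H29Fitt.gen (↑U) r j W) := by
    intro j
    rw [H10Coh.mres_mres, ← H29Fitt.res_gen r j (le_top : W ≤ ⊤)]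
    show _ = (F.restrictAppIso U.ι W).hom (e.inv.app W
      ((FlatMod.freeMod (↑U) r).presheaf.map (homOfLE le_top).op _))
    rw [H11Tilde.app_map_apply]
    rfl
  have hb := ConcreteCategory.bijective_of_isIso (U.ι.appIso W).inv
  have key : ∀ c : Fin r → Γ(↑U, W), comb F
      (fun j => F.presheaf.map (homOfLE htop).op (E ⊤ (H29Fitt.gen (↑U) r j ⊤))) hle
        (fun j => (U.ι.appIso W).inv (c j)) = E W (∑ j, c j • H29Fitt.gen (↑U) r j W) := by
    intro c
    rw [comb, map_sum]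
    refine Finset.sum_congr rfl fun j _ => ?_
    rw [hm, hEs]
  constructor
  · intro c c' h
    choose d hd using fun j => hb.2 (c j)
    choose d' hd' using fun j => hb.2 (c' j)
    rw [show c = fun j => (U.ι.appIso W).inv (d j) from funext fun j => (hd j).symm,
      show c' = fun j => (U.ι.appIso W).inv (d' j) from funext fun j => (hd' j).symm] at h ⊢
    rw [key, key] at h
    have h0 := H29Fitt.gen_independent r W (d - d') (by
      simp only [Pi.sub_apply, sub_smul, Finset.sum_sub_distrib, sub_eq_zero]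
      exact hE.1 h)
    rw [sub_eq_zero.1 h0]
  · intro s
    obtain ⟨y, rfl⟩ := hE.2 s
    obtain ⟨c, rfl⟩ := H29Fitt.exists_eq_sum_gen r W y
    exact ⟨_, key c⟩

end Groth.Agent.H26Base.BasisLite
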