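import Groth.Agent.H26Base.HartogsBig
import Groth.Agent.H26Base.BasisLite
import Groth.Agent.H29Ref.HomSections
import Groth.Agent.H17.PushColim
import Groth.Prelude.Def_ExtPow2
import Groth.Prelude.Def_FlatFun
import Mathlib.LinearAlgebra.ExteriorPower.Basis

/-!
# Dual sheaves extend across thin closed sets; biduality at modules with one generator
-/

set_option autoImplicit false
set_option maxHeartbeats 400000
set_option linter.style.haveILetI false

universe u

open CategoryTheory CategoryTheory.Limits AlgebraicGeometry Opposite TopologicalSpace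

namespace Groth.Agent.H26Base.DualExt

open Groth.Agent.H29Ref (sec_ext germ_res toLin germ_toLin)

variable {X : Scheme.{u}}

/-- The germ of the unit section. -/
noncomputable def oneStalk (x : X) : (Coh.structureModule X).presheaf.stalk x :=
  (Coh.structureModule X).presheaf.germ ⊤ x trivial ((1 : Γ(X, ⊤)) : Γ(Coh.structureModule X, ⊤))

theorem germ_one (x : X) {U : X.Opens} (hx : x ∈ U) :
    (Coh.structureModule X).presheaf.germ U x hx ((1 : Γ(X, U)) : Γ(Coh.structureModule X, U)) =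
      oneStalk x := by
  rw [oneStalk, ← germ_res (Coh.structureModule X) (le_top : U ≤ ⊤) x hx]
  exact congrArg _ (map_one (X.presheaf.map (homOfLE (le_top : U ≤ ⊤)).op).hom).symm

theorem germ_unit_eq_smul (x : X) {U : X.Opens} (hx : x ∈ U) (s : Γ(X, U)) :
    (Coh.structureModule X).presheaf.germ U x hx (s : Γ(Coh.structureModule X, U)) =
      X.presheaf.germ U x hx s • oneStalk x := by
  rw [← germ_one x hx, ← Mero.germ_smul]
  exact congrArg _ (mul_one s).symm

theorem bijective_smul_oneStalk (x : X) :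
    Function.Bijective (fun r : X.presheaf.stalk x => r • oneStalk x) := by
  constructor
  · suffices h0 : ∀ r : X.presheaf.stalk x, r • oneStalk x = 0 → r = 0 from fun a b hab =>
      sub_eq_zero.mp (h0 _ (by rw [sub_smul]; exact sub_eq_zero.mpr hab))
    intro r hr
    obtain ⟨U, hxU, a, rfl⟩ := TopCat.Presheaf.exists_germ_eq X.presheaf r
    have h : (Coh.structureModule X).presheaf.germ U x hxU (a : Γ(Coh.structureModule X, U)) =
        (Coh.structureModule X).presheaf.germ U x hxU 0 := by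
      rw [germ_unit_eq_smul, map_zero]; exact hr
    obtain ⟨W, hxW, i₁, i₂, h1⟩ :=
      TopCat.Presheaf.germ_eq (Coh.structureModule X).presheaf x hxU hxU _ _ h
    have h2 : X.presheaf.map i₁.op a = 0 := h1.trans (map_zero _)
    rw [← TopCat.Presheaf.germ_res_apply X.presheaf i₁ x hxW a, h2, map_zero]
  · intro v
    obtain ⟨U, hxU, s, rfl⟩ := TopCat.Presheaf.exists_germ_eq (Coh.structureModule X).presheaf v
    exact ⟨X.presheaf.germ U x hxU s, (germ_unit_eq_smul x hxU s).symm⟩

/-- Bijectivity on the stalks over an open gives an isomorphism of the restrictions. -/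
theorem isIso_restrict_of_bijective (U : X.Opens) {M N : X.Modules} (φ : M ⟶ N)
    (h : ∀ x ∈ U, Function.Bijective (RefHull.stalkMapₗ φ x)) :
    IsIso ((Scheme.Modules.restrictFunctor U.ι).map φ) := by
  refine H17.PushColim.isIso_of_stalkAb _ fun y => ?_
  refine (NatIso.isIso_map_iff (Scheme.Modules.restrictStalkNatIso U.ι y) φ).2 ?_
  exact (ConcreteCategory.isIso_iff_bijective _).2 (h y.1 y.2)

/-- A function with zero germs on the good open is zero. -/
theorem eq_of_germ {W : X.Opens} (hZ : HartogsBig.HasPairsNhd W) {V : X.Opens}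
    {r r' : Γ(Coh.structureModule X, V)}
    (h : ∀ (y : X) (hy : y ∈ V), y ∈ W → (Coh.structureModule X).presheaf.germ V y hy r =
      (Coh.structureModule X).presheaf.germ V y hy r') : r = r' := by
  have h1 : (Coh.structureModule X).presheaf.map (homOfLE (inf_le_left : V ⊓ W ≤ V)).op r =
      (Coh.structureModule X).presheaf.map (homOfLE (inf_le_left : V ⊓ W ≤ V)).op r' :=
    sec_ext _ fun y hy => by rw [germ_res, germ_res]; exact h y hy.1 hy.2
  exact HartogsBig.eq_of_res hZ V r r' h1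

/-- Functions extend from the good open to any open. -/
theorem exists_ext {W : X.Opens} (hZ : HartogsBig.HasPairsNhd W) (V : X.Opens)
    (σ : Γ(Coh.structureModule X, V ⊓ W)) :
    ∃ r : Γ(Coh.structureModule X, V), ∀ (y : X) (hy : y ∈ V ⊓ W),
      (Coh.structureModule X).presheaf.germ V y hy.1 r =
        (Coh.structureModule X).presheaf.germ (V ⊓ W) y hy σ := by
  let O := Coh.structureModule X
  choose A hA hxA hAV using fun x : V => exists_isAffineOpen_mem_and_subset (U := V) (x := x.1) x.2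
  have hAW : ∀ x : V, W ⊓ A x ≤ V ⊓ W := fun x y hy => ⟨hAV x hy.2, hy.1⟩
  choose r hr using fun x : V => HartogsBig.exists_extension hZ (hA x)
    (O.presheaf.map (homOfLE (hAW x)).op σ : Γ(O, W ⊓ A x))
  let r' : ∀ x : V, Γ(O, A x) := r
  have hgerm : ∀ (x : V) (y : X) (hy : y ∈ A x) (hyW : y ∈ W),
      O.presheaf.germ (A x) y hy (r' x) = O.presheaf.germ (V ⊓ W) y ⟨hAV x hy, hyW⟩ σ := by
    intro x y hy hyW
    have h1 : O.presheaf.map (homOfLE (inf_le_right : W ⊓ A x ≤ A x)).op (r' x) =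
        O.presheaf.map (homOfLE (hAW x)).op σ := hr x
    have h2 := congrArg (O.presheaf.germ (W ⊓ A x) y ⟨hyW, hy⟩) h1
    rwa [germ_res, germ_res] at h2
  have hc : TopCat.Presheaf.IsCompatible (Coh.toAb O).obj A r' := fun a b => by
    refine eq_of_germ hZ fun y hy hyW => ?_
    refine (germ_res O (inf_le_left : A a ⊓ A b ≤ A a) y hy (r' a)).trans ?_
    refine Eq.trans ?_ (germ_res O (inf_le_right : A a ⊓ A b ≤ A b) y hy (r' b)).symm
    rw [hgerm a y hy.1 hyW, hgerm b y hy.2 hyW]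
  obtain ⟨s, hs, -⟩ := TopCat.Sheaf.existsUnique_gluing' (Coh.toAb O) A V
    (fun x => homOfLE (hAV x)) (fun y hy => Opens.mem_iSup.2 ⟨⟨y, hy⟩, hxA ⟨y, hy⟩⟩) r' hc
  refine ⟨s, fun y hy => ?_⟩
  rw [← hgerm ⟨y, hy.1⟩ y (hxA _) hy.2]
  refine (germ_res O (hAV ⟨y, hy.1⟩) y (hxA _) s).symm.trans (congrArg _ (hs ⟨y, hy.1⟩))

/-- Sections of a dual sheaf extend uniquely from the good open. -/
theorem bijective_res_dual {W : X.Opens} (hZ : HartogsBig.HasPairsNhd W) (K : X.Modules)
    {V V' : X.Opens} (h : V' ≤ V) (hV' : V ⊓ W ≤ V') :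
    Function.Bijective ((RefHull.dual K).presheaf.map (homOfLE h).op) := by
  constructor
  · intro f f' hff
    refine Subtype.ext (funext fun x => LinearMap.ext fun v => ?_)
    obtain ⟨A, hxA, m, rfl⟩ := TopCat.Presheaf.exists_germ_eq K.presheaf v
    let B : X.Opens := A ⊓ V
    let m' : Γ(K, B) := K.presheaf.map (homOfLE (inf_le_left : A ⊓ V ≤ A)).op m
    let fB : Γ(RefHull.dual K, B) := (RefHull.dual K).presheaf.map (homOfLE (inf_le_right : A ⊓ V ≤ V)).op f
    let fB' : Γ(RefHull.dual K, B) := (RefHull.dual K).presheaf.map (homOfLE (inf_le_right : A ⊓ V ≤ V)).op f'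
    have e : toLin fB m' = toLin fB' m' := eq_of_germ hZ fun y hy hyW => by
      rw [germ_toLin fB m' ⟨y, hy⟩, germ_toLin fB' m' ⟨y, hy⟩]
      show f.1 ⟨y, hy.2⟩ _ = f'.1 ⟨y, hy.2⟩ _
      have h1 := congrArg (fun t : Γ(RefHull.dual K, V') => t.1 ⟨y, hV' ⟨hy.2, hyW⟩⟩) hff
      exact LinearMap.congr_fun h1 _
    have e2 := congrArg ((Coh.structureModule X).presheaf.germ B x.1 ⟨hxA, x.2⟩) e
    rw [germ_toLin fB m' ⟨x.1, hxA, x.2⟩, germ_toLin fB' m' ⟨x.1, hxA, x.2⟩] at e2
    simp only [m'] at e2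
    rw [germ_res] at e2
    exact e2
  · intro g
    let O := Coh.structureModule X
    have hex : ∀ (A : X.Opens) (hA : A ≤ V) (m : Γ(K, A)), ∃ r : Γ(O, A),
        ∀ (y : X) (hy : y ∈ A) (hyW : y ∈ W), O.presheaf.germ A y hy r =
          g.1 ⟨y, hV' ⟨hA hy, hyW⟩⟩ (K.presheaf.germ A y hy m) := by
      intro A hA m
      have hle : A ⊓ W ≤ V' := fun y hy => hV' ⟨hA hy.1, hy.2⟩
      obtain ⟨r, hr⟩ := exists_ext hZ A (toLin ((RefHull.dual K).presheaf.map (homOfLE hle).op g)
        (K.presheaf.map (homOfLE (inf_le_left : A ⊓ W ≤ A)).op m))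
      refine ⟨r, fun y hy hyW => ?_⟩
      rw [hr y ⟨hy, hyW⟩, germ_toLin _ _ (⟨y, hy, hyW⟩ : (A ⊓ W : X.Opens)), germ_res]
      rfl
    choose E hE using hex
    have hres : ∀ (A B : X.Opens) (hA : A ≤ V) (hBA : B ≤ A) (m : Γ(K, A)),
        O.presheaf.map (homOfLE hBA).op (E A hA m) = E B (hBA.trans hA) (K.presheaf.map (homOfLE hBA).op m) :=
      fun A B hA hBA m => eq_of_germ hZ fun y hy hyW => by
        rw [germ_res, hE A hA m y (hBA hy) hyW, hE B _ _ y hy hyW, germ_res]
    have hwd : ∀ (x : X) (A B : X.Opens) (hA : A ≤ V) (hB : B ≤ V) (hxA : x ∈ A) (hxB : x ∈ B)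
        (m : Γ(K, A)) (n : Γ(K, B)), K.presheaf.germ A x hxA m = K.presheaf.germ B x hxB n →
        O.presheaf.germ A x hxA (E A hA m) = O.presheaf.germ B x hxB (E B hB n) := by
      intro x A B hA hB hxA hxB m n hmn
      obtain ⟨C, hxC, i₁, i₂, he⟩ := TopCat.Presheaf.germ_eq K.presheaf x hxA hxB m n hmn
      rw [← germ_res O i₁.le x hxC, ← germ_res O i₂.le x hxC, hres A C hA i₁.le, hres B C hB i₂.le]
      exact congrArg _ (congrArg _ he)
    have hrep : ∀ (x : V) (v : K.presheaf.stalk x.1), ∃ (A : X.Opens) (_ : A ≤ V) (hx : x.1 ∈ A)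
        (m : Γ(K, A)), K.presheaf.germ A x.1 hx m = v := fun x v => by
      obtain ⟨A, hxA, m, rfl⟩ := TopCat.Presheaf.exists_germ_eq K.presheaf v
      exact ⟨A ⊓ V, inf_le_right, ⟨hxA, x.2⟩, K.presheaf.map (homOfLE inf_le_left).op m,
        germ_res K inf_le_left x.1 ⟨hxA, x.2⟩ m⟩
    choose A hA hxA m hm using hrep
    let F : ∀ x : V, K.presheaf.stalk x.1 → O.presheaf.stalk x.1 := fun x v =>
      O.presheaf.germ (A x v) x.1 (hxA x v) (E _ (hA x v) (m x v))
    have hF : ∀ (x : V) (B : X.Opens) (hB : B ≤ V) (hxB : x.1 ∈ B) (n : Γ(K, B)),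
        F x (K.presheaf.germ B x.1 hxB n) = O.presheaf.germ B x.1 hxB (E B hB n) := fun x B hB hxB n =>
      hwd _ _ _ _ _ _ _ _ _ (hm x _)
    let θ : ∀ x : V, RefHull.StalkHom K O x.1 := fun x =>
      { toFun := F x
        map_add' := fun v w => by
          obtain ⟨B₁, hB₁, hx₁, n₁, rfl⟩ : ∃ (B : X.Opens) (_ : B ≤ V) (hx : x.1 ∈ B) (n : Γ(K, B)),
              K.presheaf.germ B x.1 hx n = v := ⟨_, hA x v, hxA x v, m x v, hm x v⟩
          obtain ⟨B₂, hB₂, hx₂, n₂, rfl⟩ : ∃ (B : X.Opens) (_ : B ≤ V) (hx : x.1 ∈ B) (n : Γ(K, B)),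
              K.presheaf.germ B x.1 hx n = w := ⟨_, hA x w, hxA x w, m x w, hm x w⟩
          rw [← germ_res K (inf_le_left : B₁ ⊓ B₂ ≤ B₁) x.1 ⟨hx₁, hx₂⟩ n₁,
            ← germ_res K (inf_le_right : B₁ ⊓ B₂ ≤ B₂) x.1 ⟨hx₁, hx₂⟩ n₂, ← map_add,
            hF x _ (inf_le_left.trans hB₁), hF x _ (inf_le_left.trans hB₁), hF x _ (inf_le_left.trans hB₁),
            ← map_add]
          refine congrArg _ (eq_of_germ hZ fun y hy hyW => ?_)
          rw [map_add, hE _ _ _ y hy hyW, hE _ _ _ y hy hyW, hE _ _ _ y hy hyW, map_add, map_add]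
        map_smul' := fun a v => by
          obtain ⟨Ba, hxa, r, rfl⟩ := TopCat.Presheaf.exists_germ_eq X.presheaf a
          obtain ⟨B, hB, hx, n, rfl⟩ : ∃ (B : X.Opens) (_ : B ≤ V) (hx : x.1 ∈ B) (n : Γ(K, B)),
              K.presheaf.germ B x.1 hx n = v := ⟨_, hA x v, hxA x v, m x v, hm x v⟩
          rw [RingHom.id_apply, ← TopCat.Presheaf.germ_res_apply X.presheaf (homOfLE (inf_le_left : Ba ⊓ B ≤ Ba)) x.1 ⟨hxa, hx⟩ r,
            ← germ_res K (inf_le_right : Ba ⊓ B ≤ B) x.1 ⟨hxa, hx⟩ n, ← Mero.germ_smul,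
            hF x _ (inf_le_right.trans hB), hF x _ (inf_le_right.trans hB), ← Mero.germ_smul]
          refine congrArg _ (eq_of_germ hZ fun y hy hyW => ?_)
          rw [Mero.germ_smul, hE _ _ _ y hy hyW, hE _ _ _ y hy hyW, Mero.germ_smul, map_smul] }
    have hθ : RefHull.IsLocSect K O θ := fun B i n x =>
      ⟨B, x.2, 𝟙 B, E B i.le n, fun y => hF ⟨y.1, i.le y.2⟩ B i.le y.2 n⟩
    refine ⟨(⟨θ, hθ⟩ : Γ(RefHull.dual K, V)), ?_⟩
    refine Subtype.ext (funext fun y => LinearMap.ext fun v => ?_)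
    obtain ⟨B, hyB, n, rfl⟩ := TopCat.Presheaf.exists_germ_eq K.presheaf v
    let C : X.Opens := B ⊓ V'
    let n' : Γ(K, C) := K.presheaf.map (homOfLE (inf_le_left : B ⊓ V' ≤ B)).op n
    have hC : C ≤ V := inf_le_right.trans h
    let gC : Γ(RefHull.dual K, C) := (RefHull.dual K).presheaf.map (homOfLE (inf_le_right : B ⊓ V' ≤ V')).op g
    have e : E C hC n' = toLin gC n' := eq_of_germ hZ fun z hz hzW => by
      rw [hE C hC n' z hz hzW, germ_toLin gC n' ⟨z, hz⟩]
      rfl
    show F ⟨y.1, h y.2⟩ _ = _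
    rw [← germ_res K (inf_le_left : B ⊓ V' ≤ B) y.1 ⟨hyB, y.2⟩ n,
      hF ⟨y.1, h y.2⟩ C hC ⟨hyB, y.2⟩ n', e, germ_toLin gC n' ⟨y.1, hyB, y.2⟩]
    rfl

/-- The unit of restriction to the good open is an isomorphism on dual sheaves. -/
theorem isIso_unit_dual {W : X.Opens} (hZ : HartogsBig.HasPairsNhd W) (K : X.Modules) :
    IsIso ((Scheme.Modules.restrictAdjunction W.ι).unit.app (RefHull.dual K)) := by
  rw [Scheme.Modules.Hom.isIso_iff_isIso_app]
  intro V
  rw [ConcreteCategory.isIso_iff_bijective, Scheme.Modules.restrictAdjunction_unit_app_app]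
  exact bijective_res_dual hZ K (W.ι.image_preimage_le V) fun x hx => ⟨⟨x, hx.2⟩, hx.1, rfl⟩

/-- Biduality is bijective on the stalk at a point near which the module has one generator. -/
theorem bijective_bidual_of_basis (L : X.Modules) {A : X.Opens} (g : Γ(L, A))
    (hb : BasisLite.IsBasisOn L (fun _ : Fin 1 => g)) (x : X) (hx : x ∈ A) :
    Function.Bijective (RefHull.stalkMapₗ (RefHull.bidualMap L) x) := by
  let O := Coh.structureModule X
  have hsec : ∀ (B : X.Opens) (hB : B ≤ A) (t : Γ(L, B)),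
      ∃ r : Γ(X, B), t = r • L.presheaf.map (homOfLE hB).op g := fun B hB t => by
    obtain ⟨c, rfl⟩ := (hb B hB).2 t
    exact ⟨c 0, by rw [BasisLite.comb, Fin.sum_univ_one]⟩
  have hgy : ∀ (y : X) (hy : y ∈ A),
      Function.Bijective fun r : X.presheaf.stalk y => r • L.presheaf.germ A y hy g := by
    intro y hy
    constructor
    · suffices h0 : ∀ r : X.presheaf.stalk y, r • L.presheaf.germ A y hy g = 0 → r = 0 from
        fun a b hab => sub_eq_zero.mp (h0 _ ((sub_smul a b _).trans (sub_eq_zero.mpr hab)))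
      intro r hr
      obtain ⟨B, hyB, a, rfl⟩ := TopCat.Presheaf.exists_germ_eq X.presheaf r
      let a' := X.presheaf.map (homOfLE (inf_le_left : B ⊓ A ≤ B)).op a
      let gB : Γ(L, B ⊓ A) := L.presheaf.map (homOfLE (inf_le_right : B ⊓ A ≤ A)).op g
      have h1 : L.presheaf.germ (B ⊓ A) y ⟨hyB, hy⟩ (a' • gB) =
          L.presheaf.germ (B ⊓ A) y ⟨hyB, hy⟩ 0 := by
        simp only [a', gB]
        rw [Mero.germ_smul, germ_res, TopCat.Presheaf.germ_res_apply, map_zero]
        exact hr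
      obtain ⟨C, hyC, i, _, hC⟩ := TopCat.Presheaf.germ_eq L.presheaf y _ _ _ _ h1
      have hCA : C ≤ A := i.le.trans inf_le_right
      have h2 : BasisLite.comb L (fun _ : Fin 1 => g) hCA (fun _ => X.presheaf.map i.op a') =
          BasisLite.comb L (fun _ : Fin 1 => g) hCA 0 := by
        rw [BasisLite.comb, BasisLite.comb, Fin.sum_univ_one, Fin.sum_univ_one, Pi.zero_apply, zero_smul]
        refine Eq.trans ?_ (hC.trans (map_zero _))
        rw [Scheme.Modules.map_smul]
        exact congrArg _ (H10Coh.mres_mres L inf_le_right i.le g).symm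
      have h3 := congrFun ((hb C hCA).1 h2) 0
      rw [← TopCat.Presheaf.germ_res_apply X.presheaf (homOfLE (inf_le_left : B ⊓ A ≤ B)) y ⟨hyB, hy⟩ a,
        ← TopCat.Presheaf.germ_res_apply X.presheaf i y hyC,
        show X.presheaf.map i.op a' = 0 from h3, map_zero]
    · intro v
      obtain ⟨B, hyB, t, rfl⟩ := TopCat.Presheaf.exists_germ_eq L.presheaf v
      obtain ⟨r, hr⟩ := hsec (B ⊓ A) inf_le_right (L.presheaf.map (homOfLE inf_le_left).op t)
      refine ⟨X.presheaf.germ (B ⊓ A) y ⟨hyB, hy⟩ r, ?_⟩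
      have h1 := congrArg (L.presheaf.germ (B ⊓ A) y ⟨hyB, hy⟩) hr
      rw [germ_res, Mero.germ_smul, germ_res] at h1
      exact h1.symm
  let e : ∀ y : A, X.presheaf.stalk y.1 ≃ₗ[X.presheaf.stalk y.1] L.presheaf.stalk y.1 := fun y =>
    LinearEquiv.ofBijective (LinearMap.toSpanSingleton _ _ (L.presheaf.germ A y.1 y.2 g)) (hgy y.1 y.2)
  let co : ∀ y : A, RefHull.StalkHom L O y.1 := fun y =>
    (LinearMap.toSpanSingleton _ _ (oneStalk y.1)).comp (e y).symm.toLinearMap
  have hco : ∀ (y : A) (c : X.presheaf.stalk y.1),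
      co y (c • L.presheaf.germ A y.1 y.2 g) = c • oneStalk y.1 := fun y c => by
    show (e y).symm (c • L.presheaf.germ A y.1 y.2 g) • oneStalk y.1 = _
    exact congrArg (· • oneStalk y.1) ((e y).symm_apply_apply c)
  have hloc : RefHull.IsLocSect L O co := fun B i t z => by
    obtain ⟨r, hr⟩ := hsec B i.le t
    refine ⟨B, z.2, 𝟙 B, r, fun y => ?_⟩
    rw [hr, Mero.germ_smul, germ_res]
    exact (hco ⟨y.1, i.le y.2⟩ _).trans (germ_unit_eq_smul y.1 y.2 r).symm
  let gs : Γ(RefHull.dual L, A) := ⟨co, hloc⟩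
  constructor
  · suffices h0 : ∀ v, RefHull.stalkMapₗ (RefHull.bidualMap L) x v = 0 → v = 0 from
      fun a b hab => sub_eq_zero.mp (h0 _ ((map_sub _ a b).trans (sub_eq_zero.mpr hab)))
    intro v hv
    obtain ⟨c, rfl⟩ := (hgy x hx).2 v
    have key : ∀ w : L.presheaf.stalk x, RefHull.evalStalk (RefHull.dual L) O x
        (RefHull.stalkMapₗ (RefHull.bidualMap L) x w) = RefHull.bidualAt L x w := fun w => by
      obtain ⟨B, hxB, t, rfl⟩ := TopCat.Presheaf.exists_germ_eq L.presheaf w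
      rw [RefHull.stalkMapₗ_germ, RefHull.evalStalk_germ]
      rfl
    have h1 := key (c • L.presheaf.germ A x hx g)
    rw [hv, map_zero] at h1
    have h2 := LinearMap.congr_fun h1 ((RefHull.dual L).presheaf.germ A x hx gs)
    rw [RefHull.bidualAt_apply, RefHull.evalStalk_germ, LinearMap.zero_apply] at h2
    have h3 : c • oneStalk x = (0 : X.presheaf.stalk x) • oneStalk x := by
      rw [zero_smul]
      exact ((hco ⟨x, hx⟩ c).symm.trans h2.symm)
    rw [(bijective_smul_oneStalk x).1 h3]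
    exact zero_smul _ _
  · intro Φ
    obtain ⟨B₀, hxB₀, f₀, rfl⟩ := TopCat.Presheaf.exists_germ_eq (RefHull.ddual L).presheaf Φ
    let B : X.Opens := B₀ ⊓ A
    let f : Γ(RefHull.ddual L, B) := (RefHull.ddual L).presheaf.map (homOfLE (inf_le_left : B₀ ⊓ A ≤ B₀)).op f₀
    let gsB : Γ(RefHull.dual L, B) := (RefHull.dual L).presheaf.map (homOfLE (inf_le_right : B₀ ⊓ A ≤ A)).op gs
    let n : Γ(X, B) := toLin f gsB
    let s : Γ(L, B) := n • L.presheaf.map (homOfLE (inf_le_right : B₀ ⊓ A ≤ A)).op g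
    have key : (RefHull.bidualMap L).app B s = f := by
      refine Subtype.ext (funext fun y => LinearMap.ext fun θ => ?_)
      rw [RefHull.bidualMap_app_apply, RefHull.bidualAt_apply]
      obtain ⟨C₀, hyC₀, t₀, rfl⟩ := TopCat.Presheaf.exists_germ_eq (RefHull.dual L).presheaf θ
      let C : X.Opens := C₀ ⊓ B
      have hCA : C ≤ A := inf_le_right.trans inf_le_right
      let t : Γ(RefHull.dual L, C) := (RefHull.dual L).presheaf.map (homOfLE (inf_le_left : C₀ ⊓ B ≤ C₀)).op t₀
      let gC : Γ(L, C) := L.presheaf.map (homOfLE hCA).op g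
      let a : Γ(X, C) := toLin t gC
      let gsC : Γ(RefHull.dual L, C) := (RefHull.dual L).presheaf.map (homOfLE hCA).op gs
      have ht : t = a • gsC := by
        refine Subtype.ext (funext fun z => LinearMap.ext fun v => ?_)
        obtain ⟨c, rfl⟩ := (hgy z.1 (hCA z.2)).2 v
        show t.1 z (c • _) = X.presheaf.germ C z.1 z.2 a • co ⟨z.1, hCA z.2⟩ (c • _)
        rw [map_smul, hco ⟨z.1, hCA z.2⟩ c, smul_comm, ← germ_unit_eq_smul z.1 z.2 a]
        refine congrArg (c • ·) ?_
        rw [show (a : Γ(O, C)) = toLin t gC from rfl, germ_toLin t gC z, germ_res]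
      rw [← germ_res (RefHull.dual L) (inf_le_left : C₀ ⊓ B ≤ C₀) y.1 ⟨hyC₀, y.2⟩ t₀]
      rw [show ((RefHull.dual L).presheaf.map (homOfLE (inf_le_left : C₀ ⊓ B ≤ C₀)).op t₀) = t from rfl,
        ht, Mero.germ_smul, map_smul (f.1 y), map_smul (RefHull.evalStalk L O y.1), LinearMap.smul_apply, germ_res, RefHull.evalStalk_germ]
      refine congrArg _ ?_
      show co ⟨y.1, y.2.2⟩ (L.presheaf.germ B y.1 y.2 s) = f.1 y ((RefHull.dual L).presheaf.germ A y.1 y.2.2 gs)
      simp only [s]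
      rw [Mero.germ_smul, germ_res, hco ⟨y.1, y.2.2⟩, ← germ_unit_eq_smul y.1 y.2 n,
        show (n : Γ(O, B)) = toLin f gsB from rfl, germ_toLin f gsB y, germ_res]
    refine ⟨L.presheaf.germ B x ⟨hxB₀, hx⟩ s, ?_⟩
    rw [RefHull.stalkMapₗ_germ, key, germ_res]

/-- The top exterior power of a free module has one generator. -/
theorem bijective_smul_iMulti {R M : Type u} [CommRing R] [AddCommGroup M] [Module R M] {h : ℕ}
    (m : Fin h → M) (hm : Function.Bijective fun c : Fin h → R => ∑ j, c j • m j) :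
    Function.Bijective fun r : R => r • exteriorPower.ιMulti R h m := by
  classical
  have hm' : Function.Bijective (Fintype.linearCombination R m) := by
    have he' : ⇑(Fintype.linearCombination R m) = fun c => ∑ j, c j • m j :=
      funext fun c => Fintype.linearCombination_apply R m c
    rw [he']
    exact hm
  let b : Module.Basis (Fin h) R M := Module.Basis.ofEquivFun (LinearEquiv.ofBijective _ hm').symm
  have hbm : ∀ i, b i = m i := fun i => by
    simp [b, Fintype.linearCombination_apply, Pi.single_apply, ite_smul]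
  haveI : Subsingleton (Set.powersetCard (Fin h) h) := ⟨fun s t => Subtype.ext <| by
    rw [Finset.eq_univ_of_card s.1 (s.2.trans (Fintype.card_fin h).symm),
      Finset.eq_univ_of_card t.1 (t.2.trans (Fintype.card_fin h).symm)]⟩
  let s : Set.powersetCard (Fin h) h := ⟨Finset.univ, Finset.card_fin h⟩
  haveI : Unique (Set.powersetCard (Fin h) h) := uniqueOfSubsingleton s
  have he : exteriorPower.ιMulti R h m = b.exteriorPower h s := by
    rw [exteriorPower.basis_apply, exteriorPower.ιMulti_family]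
    refine congrArg _ (funext fun i => ?_)
    rw [Function.comp_apply, hbm]
    congr 1
    have := Finset.orderEmbOfFin_unique' (Finset.card_fin h) (f := OrderEmbedding.id (Fin h)) (fun _ => Finset.mem_univ _)
    rw [Set.powersetCard.ofFinEmbEquiv_symm_apply]
    exact DFunLike.congr_fun this i
  rw [he]
  constructor
  · intro r r' hr
    have := congrArg (fun z => (b.exteriorPower h).repr z s) hr
    simpa using this
  · intro z
    refine ⟨(b.exteriorPower h).repr z s, ?_⟩
    conv_rhs => rw [← (b.exteriorPower h).sum_repr z, Fintype.sum_subsingleton _ s]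

/-- An exterior power of top degree has one generator near points where the module is free. -/
theorem exists_generator_extPow {h : ℕ} {F L : X.Modules} (hL : ExtPow.IsExtPow h F L) (x : X)
    (hF : FlatFun.IsFreeOfRankNear F h x) :
    ∃ (A : X.Opens) (g : Γ(L, A)), x ∈ A ∧ BasisLite.IsBasisOn L (fun _ : Fin 1 => g) := by
  obtain ⟨φ, hφ⟩ := hL
  obtain ⟨V, hxV, ⟨e⟩⟩ := hF
  obtain ⟨m, hm⟩ := BasisLite.exists_isBasisOn_of_chart F e
  obtain ⟨A, hA, hxA, hAV⟩ := exists_isAffineOpen_mem_and_subset hxV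
  let eA : Fin h → F.val.obj (op A) := fun j => F.presheaf.map (homOfLE hAV).op (m j)
  refine ⟨A, (φ ⟨A, hA⟩).symm (exteriorPower.ιMulti _ h eA), hxA,
    BasisLite.isBasisOn_of_locally fun y hy => ⟨A, hy, fun B hB hBa _ => ?_⟩⟩
  have hgB := hφ ⟨A, hA⟩ ⟨B, hBa⟩ hB eA
  let fB : Fin h → F.val.obj (op B) := fun j => F.presheaf.map (homOfLE (hB.trans hAV)).op (m j)
  have hbB : Function.Bijective fun c : Fin h → Γ(X, B) => ∑ j, c j • fB j := hm B (hB.trans hAV)
  have he : (fun j => F.val.map (homOfLE hB).op (eA j)) = fB :=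
    funext fun j => H10Coh.mres_mres F hAV hB (m j)
  have hgB' : L.presheaf.map (homOfLE hB).op ((φ ⟨A, hA⟩).symm (exteriorPower.ιMulti _ h eA)) =
      (φ ⟨B, hBa⟩).symm (exteriorPower.ιMulti _ h fB) := by
    refine hgB.trans ?_
    exact congrArg _ (congrArg _ he)
  have h3 := ((φ ⟨B, hBa⟩).symm.bijective.comp (bijective_smul_iMulti _ hbB)).comp
    (Equiv.funUnique (Fin 1) Γ(X, B)).bijective
  refine (Eq.mp ?_ h3)
  refine congrArg Function.Bijective (funext fun c => ?_)
  show (φ ⟨B, hBa⟩).symm (c 0 • _) = BasisLite.comb L _ hB c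
  rw [map_smul, BasisLite.comb, Fin.sum_univ_one]
  exact congrArg (c 0 • ·) hgB'.symm

end Groth.Agent.H26Base.DualExt
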