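import Groth.Agent.H8Props.SliceTools.Scheme
import Groth.Agent.H8Props.FibreStalk
import Groth.Agent.H4Depth.Regular
import Groth.Agent.H19Grp.RegularSmooth
import Groth.Prelude.Def_CInt

/-!
# Sequences regular on a fibre over an arbitrary base are regular in the local ring
-/

set_option autoImplicit false
set_option linter.style.haveILetI false

universe u

open AlgebraicGeometry CategoryTheory CategoryTheory.Limits IsLocalRing TopologicalSpace
open RingTheory.Sequence

namespace Groth.Agent.H26Base.FibreReg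

variable {X S : Scheme.{u}}

/-- A sequence regular on a fibre of a flat morphism locally of finite presentation is weakly regular
on a whole neighbourhood. -/
theorem exists_nhd_weaklyRegular (f : X ⟶ S) [LocallyOfFinitePresentation f] (x : X)
    (hflat : (f.stalkMap x).hom.Flat) (hs : List (X.presheaf.stalk x))
    (hmem : ∀ r ∈ hs, r ∈ maximalIdeal (X.presheaf.stalk x))
    (hreg : IsWeaklyRegular
      (X.presheaf.stalk x ⧸ Ideal.map (f.stalkMap x).hom (maximalIdeal (S.presheaf.stalk (f x))))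
      (hs.map (Ideal.Quotient.mk (Ideal.map (f.stalkMap x).hom (maximalIdeal (S.presheaf.stalk (f x))))))) :
    ∃ (N : X.Opens) (hxN : x ∈ N) (fs : List Γ(X, N)), IsAffineOpen N ∧
      fs.map (X.presheaf.germ N x hxN) = hs ∧
      ∀ (y : X) (hy : y ∈ N), IsWeaklyRegular (X.presheaf.stalk y) (fs.map (X.presheaf.germ N y hy)) := by
  set I := Ideal.map (f.stalkMap x).hom (maximalIdeal ↑(S.presheaf.stalk (f x))) with hI
  obtain ⟨W, hxW, -, hsW, hsW'⟩ := H8Props.SliceTools.exists_common x hs ⊤ trivial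
  obtain ⟨V, hV, U, hU, e, hxU, hUW, hfl⟩ := H8Props.SliceTools.exists_flat_chart f x hflat W hxW
  let fs := hsW.map (X.presheaf.map (homOfLE hUW).op)
  have hfs : fs.map (X.presheaf.germ U x hxU) = hs := by
    rw [← hsW', List.map_map]
    exact List.map_congr_left fun s _ => TopCat.Presheaf.germ_res_apply ..
  letI := (f.appLE V U e).hom.toAlgebra
  haveI : Module.Flat Γ(S, V) Γ(X, U) := hfl
  haveI : Algebra.FinitePresentation Γ(S, V) Γ(X, U) :=
    LocallyOfFinitePresentation.finitePresentation_appLE f hV hU e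
  let q := hU.primeIdealOf ⟨x, hxU⟩
  let π : U := ⟨x, hxU⟩
  letI : Algebra Γ(X, U) (X.presheaf.stalk x) := (X.presheaf.germ U x hxU).hom.toAlgebra
  haveI : IsLocalization.AtPrime (X.presheaf.stalk x) q.asIdeal := hU.isLocalization_stalk π
  let fx : Γ(S, V) →+* S.presheaf.stalk (f x) := (S.presheaf.germ V (f x) (e hxU)).hom
  letI : Algebra Γ(S, V) (S.presheaf.stalk (f x)) := fx.toAlgebra
  haveI : IsLocalization.AtPrime (S.presheaf.stalk (f x)) (hV.primeIdealOf ⟨f x, e hxU⟩).asIdeal :=
    hV.isLocalization_stalk ⟨f x, e hxU⟩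
  have hcomp : (f.stalkMap x).hom.comp fx =
      (algebraMap Γ(X, U) (X.presheaf.stalk x)).comp (algebraMap Γ(S, V) Γ(X, U)) := by
    refine RingHom.ext fun a => ?_
    show f.stalkMap x (S.presheaf.germ V (f x) (e hxU) a) = X.presheaf.germ U x hxU (f.appLE V U e a)
    rw [Scheme.Hom.germ_stalkMap_apply]
    simp [Scheme.Hom.appLE]
  have hp : (hV.primeIdealOf ⟨f x, e hxU⟩).asIdeal = q.asIdeal.comap (algebraMap Γ(S, V) Γ(X, U)) := by
    rw [← IsLocalization.AtPrime.under_maximalIdeal (S.presheaf.stalk (f x)) (hV.primeIdealOf ⟨f x, e hxU⟩).asIdeal]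
    show (maximalIdeal _).comap fx = q.asIdeal.comap (algebraMap Γ(S, V) Γ(X, U))
    rw [← IsLocalization.AtPrime.under_maximalIdeal (X.presheaf.stalk x) q.asIdeal, Ideal.comap_comap,
      ← hcomp, ← Ideal.comap_comap, ((local_hom_TFAE (f.stalkMap x).hom).out 0 4 : IsLocalHom (f.stalkMap x).hom ↔ (maximalIdeal _).comap (f.stalkMap x).hom = maximalIdeal _).mp inferInstance]
  have hI' : I = ((q.asIdeal.comap (algebraMap Γ(S, V) Γ(X, U))).map (algebraMap Γ(S, V) Γ(X, U))).map
      (algebraMap Γ(X, U) (X.presheaf.stalk x)) := by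
    rw [hI, ← IsLocalization.AtPrime.map_eq_maximalIdeal (hV.primeIdealOf ⟨f x, e hxU⟩).asIdeal
      (S.presheaf.stalk (f x)), hp, Ideal.map_map, Ideal.map_map, ← hcomp]
    rfl
  have hfq : ∀ g ∈ fs, g ∈ q.asIdeal := fun g hg => by
    rw [← IsLocalization.AtPrime.under_maximalIdeal (X.presheaf.stalk x) q.asIdeal]
    exact hmem _ (hfs ▸ List.mem_map_of_mem hg)
  have hfib : H8Props.SliceTools.FibReg (A := Γ(S, V)) q.asIdeal fs :=
    H8Props.SliceTools.fibReg_of_chart _ _ fs I hI' (by
      rw [show fs.map (algebraMap Γ(X, U) (X.presheaf.stalk x)) = hs from hfs]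
      exact hreg)
  obtain ⟨b, hb, hL⟩ := H8Props.SliceTools.exists_transReg_of_fibReg _ _ fs rfl q hfq hfib
  refine ⟨X.basicOpen b, (Scheme.mem_basicOpen X b x hxU).mpr (IsLocalization.map_units (X.presheaf.stalk x) (⟨b, hb⟩ : q.asIdeal.primeCompl)), fs.map (X.presheaf.map (homOfLE (X.basicOpen_le b)).op), hU.basicOpen b, ?_, fun y hy => ?_⟩
  · rw [← hfs, List.map_map]
    exact List.map_congr_left fun s _ => TopCat.Presheaf.germ_res_apply ..
  rw [List.map_map, show (X.presheaf.germ (X.basicOpen b) y hy ∘ X.presheaf.map (homOfLE (X.basicOpen_le b)).op) =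
    (X.presheaf.germ U y (X.basicOpen_le b hy) : Γ(X, U) → X.presheaf.stalk y) from
      funext fun s => TopCat.Presheaf.germ_res_apply ..]
  let L := Localization.Away b
  letI : Algebra Γ(X, U) (X.presheaf.stalk y) := (X.presheaf.germ U y (X.basicOpen_le b hy)).hom.toAlgebra
  let qy := hU.primeIdealOf ⟨y, X.basicOpen_le b hy⟩
  haveI : IsLocalization.AtPrime (X.presheaf.stalk y) qy.asIdeal := hU.isLocalization_stalk _
  have hu : IsUnit (algebraMap Γ(X, U) (X.presheaf.stalk y) b) := (Scheme.mem_basicOpen X b y (X.basicOpen_le b hy)).mp hy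
  have hby : b ∈ qy.asIdeal.primeCompl := (IsLocalization.AtPrime.isUnit_to_map_iff _ qy.asIdeal b).mp hu
  letI : Algebra L (X.presheaf.stalk y) := (IsLocalization.Away.lift b hu).toAlgebra
  haveI : IsScalarTower Γ(X, U) L (X.presheaf.stalk y) :=
    IsScalarTower.of_algebraMap_eq fun a => (IsLocalization.Away.lift_eq b hu a).symm
  haveI := IsLocalization.isLocalization_of_submonoid_le L (X.presheaf.stalk y)
    (Submonoid.powers b) qy.asIdeal.primeCompl (Submonoid.powers_le.mpr hby)
  haveI : Module.Flat L (X.presheaf.stalk y) :=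
    IsLocalization.flat (X.presheaf.stalk y) (qy.asIdeal.primeCompl.map (algebraMap Γ(X, U) L))
  have h1 := IsWeaklyRegular.of_flat (S := X.presheaf.stalk y) (hL L).1
  rw [List.map_map, show (algebraMap L (X.presheaf.stalk y) ∘ algebraMap Γ(X, U) L) =
    algebraMap Γ(X, U) (X.presheaf.stalk y) from funext fun a =>
      (IsScalarTower.algebraMap_apply Γ(X, U) L (X.presheaf.stalk y) a).symm] at h1
  exact h1

/-- A sequence in the maximal ideal, weakly regular on the fibre of a flat morphism locally of finite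
presentation, is weakly regular in the local ring. -/
theorem isWeaklyRegular_stalk_of_fibre (f : X ⟶ S) [LocallyOfFinitePresentation f] (x : X)
    (hflat : (f.stalkMap x).hom.Flat) (hs : List (X.presheaf.stalk x))
    (hmem : ∀ r ∈ hs, r ∈ maximalIdeal (X.presheaf.stalk x))
    (hreg : IsWeaklyRegular
      (X.presheaf.stalk x ⧸ Ideal.map (f.stalkMap x).hom (maximalIdeal (S.presheaf.stalk (f x))))
      (hs.map (Ideal.Quotient.mk (Ideal.map (f.stalkMap x).hom (maximalIdeal (S.presheaf.stalk (f x))))))) :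
    IsWeaklyRegular (X.presheaf.stalk x) hs := by
  obtain ⟨N, hxN, fs, -, hfs, h⟩ := exists_nhd_weaklyRegular f x hflat hs hmem hreg
  exact hfs ▸ h x hxN

/-- A smooth morphism has pairs of elements forming a regular sequence at points of codimension at
least two in their fibre. -/
theorem exists_pair_fibre_of_smooth (g : X ⟶ S) [Smooth g] (x : X)
    (hx : (2 : WithBot ℕ∞) ≤ ringKrullDim (CInt.fiberStalk g x)) :
    ∃ a b : X.presheaf.stalk x, a ∈ maximalIdeal (X.presheaf.stalk x) ∧
      b ∈ maximalIdeal (X.presheaf.stalk x) ∧ IsWeaklyRegular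
        (X.presheaf.stalk x ⧸ Ideal.map (g.stalkMap x).hom (maximalIdeal (S.presheaf.stalk (g x))))
        ([a, b].map (Ideal.Quotient.mk (Ideal.map (g.stalkMap x).hom (maximalIdeal (S.presheaf.stalk (g x)))))) := by
  haveI : Smooth (g.fiberToSpecResidueField (g x)) := MorphismProperty.pullback_snd _ _ inferInstance
  haveI : IsRegularLocalRing (CInt.fiberStalk g x) :=
    H19Grp.isRegularLocalRing_stalk_of_smooth (k := S.residueField (g x))
      (g.fiberToSpecResidueField (g x)) (g.asFiber x)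
  let I := Ideal.map (g.stalkMap x).hom (maximalIdeal (S.presheaf.stalk (g x)))
  let e : X.presheaf.stalk x ⧸ I ≃+* CInt.fiberStalk g x := H8Props.FibreStalk.asFiberStalkEquiv g x
  have hle : I ≤ maximalIdeal (X.presheaf.stalk x) := map_maximalIdeal_le _
  haveI : Nontrivial (X.presheaf.stalk x ⧸ I) :=
    Ideal.Quotient.nontrivial_iff.mpr (ne_top_of_le_ne_top (maximalIdeal.isMaximal _).ne_top hle)
  haveI : IsLocalRing (X.presheaf.stalk x ⧸ I) := .of_surjective' _ Ideal.Quotient.mk_surjective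
  haveI : IsRegularLocalRing (X.presheaf.stalk x ⧸ I) := IsRegularLocalRing.of_ringEquiv e.symm
  obtain ⟨d, ys, hd, hys⟩ :=
    H4Depth.exists_regular_system_of_parameters (X.presheaf.stalk x ⧸ I)
  have h2 : 2 ≤ d := by
    have h := hx
    rw [← ringKrullDim_eq_of_ringEquiv e, hd] at h
    exact_mod_cast h
  have hreg := (H4Depth.isRegular_ofFn_of_span_eq d hd ys hys).1
  obtain ⟨a, ha⟩ := Ideal.Quotient.mk_surjective (ys ⟨0, by omega⟩)
  obtain ⟨b, hb⟩ := Ideal.Quotient.mk_surjective (ys ⟨1, by omega⟩)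
  have hmem : ∀ (r : X.presheaf.stalk x) (i : Fin d), Ideal.Quotient.mk I r = ys i →
      r ∈ maximalIdeal (X.presheaf.stalk x) := fun r i hr hu => by
    have h := hys ▸ Ideal.subset_span (Set.mem_range_self i)
    exact h (hr ▸ hu.map (Ideal.Quotient.mk I))
  refine ⟨a, b, hmem a _ ha, hmem b _ hb, ?_⟩
  show IsWeaklyRegular (X.presheaf.stalk x ⧸ I) ([a, b].map (Ideal.Quotient.mk I))
  rw [H29Slice.isWeaklyRegular_iff_elementwise] at hreg ⊢
  simp only [List.map_cons, List.map_nil, ha, hb]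
  intro i hi z hz
  have hlen : i < (List.ofFn ys).length := by
    rw [List.length_ofFn]; simp at hi; omega
  have hpre : [ys ⟨0, by omega⟩, ys ⟨1, by omega⟩] = (List.ofFn ys).take 2 := by
    refine List.ext_getElem (by simp; omega) fun j hj hj' => ?_
    simp only [List.getElem_take, List.getElem_ofFn]
    rcases j with _ | _ | j
    · rfl
    · rfl
    · simp at hj
  have hi2 : i < 2 := by simpa using hi
  have ht : [ys ⟨0, by omega⟩, ys ⟨1, by omega⟩].take i = (List.ofFn ys).take i := by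
    rw [hpre, List.take_take, min_eq_left hi2.le]
  have hg : [ys ⟨0, by omega⟩, ys ⟨1, by omega⟩][i] = (List.ofFn ys)[i] := by
    simp only [hpre, List.getElem_take]
  rw [ht, hg] at hz
  rw [ht]
  exact hreg i hlen z hz

/-- ... and hence regular sequences in the local rings. -/
theorem exists_pair_of_smooth (g : X ⟶ S) [Smooth g] (x : X)
    (hx : (2 : WithBot ℕ∞) ≤ ringKrullDim (CInt.fiberStalk g x)) :
    ∃ a b : X.presheaf.stalk x, a ∈ maximalIdeal (X.presheaf.stalk x) ∧
      b ∈ maximalIdeal (X.presheaf.stalk x) ∧ IsWeaklyRegular (X.presheaf.stalk x) [a, b] := by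
  obtain ⟨a, b, ha, hb, h⟩ := exists_pair_fibre_of_smooth g x hx
  refine ⟨a, b, ha, hb, isWeaklyRegular_stalk_of_fibre g x (Flat.stalkMap g x) [a, b] ?_ h⟩
  intro r hr
  simp only [List.mem_cons, List.not_mem_nil, or_false] at hr
  rcases hr with rfl | rfl <;> assumption

/-- At points of codimension at least two in their fibre, pairs regular on a neighbourhood. -/
theorem exists_nhd_pair_of_smooth (g : X ⟶ S) [Smooth g] (x : X)
    (hx : (2 : WithBot ℕ∞) ≤ ringKrullDim (CInt.fiberStalk g x)) :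
    ∃ (N : X.Opens) (_ : IsAffineOpen N) (a b : Γ(X, N)), x ∈ N ∧ x ∉ X.basicOpen a ∧ x ∉ X.basicOpen b ∧
      ∀ (y : X) (hy : y ∈ N),
        IsWeaklyRegular (X.presheaf.stalk y) [X.presheaf.germ N y hy a, X.presheaf.germ N y hy b] := by
  obtain ⟨a, b, ha, hb, h⟩ := exists_pair_fibre_of_smooth g x hx
  obtain ⟨N, hxN, fs, hN, hfs, hreg⟩ := exists_nhd_weaklyRegular g x (Flat.stalkMap g x) [a, b] (fun r hr => by
    simp only [List.mem_cons, List.not_mem_nil, or_false] at hr
    rcases hr with rfl | rfl <;> assumption) h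
  match fs, hfs, hreg with
  | [a', b'], hfs, hreg =>
    simp only [List.map_cons, List.map_nil, List.cons.injEq, and_true] at hfs
    refine ⟨N, hN, a', b', hxN, fun h' => ?_, fun h' => ?_, fun y hy => hreg y hy⟩
    · have hu := (Scheme.mem_basicOpen X a' x hxN).mp h'
      rw [hfs.1] at hu
      exact ha hu
    · have hu := (Scheme.mem_basicOpen X b' x hxN).mp h'
      rw [hfs.2] at hu
      exact hb hu

end Groth.Agent.H26Base.FibreReg

namespace Groth.Agent.H26Base.FibreReg

/-- Restriction to a smaller open is injective if every point outside it has a nonzerodivisor in its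
maximal ideal. -/
theorem eq_zero_of_regular {X : Scheme.{u}} (V U : X.Opens) (r : Γ(X, V))
    (hr : X.presheaf.map (homOfLE (inf_le_left : V ⊓ U ≤ V)).op r = 0)
    (h : ∀ w ∈ V, w ∉ U → ∃ a ∈ maximalIdeal (X.presheaf.stalk w), IsSMulRegular (X.presheaf.stalk w) a) :
    r = 0 := by
  refine TopCat.Presheaf.section_ext (F := X.sheaf) V r 0 fun z hz => ?_
  obtain ⟨V', hV', hzV', hle⟩ := exists_isAffineOpen_mem_and_subset (U := V) (x := z) hz
  let r' : Γ(X, V') := X.presheaf.map (homOfLE hle).op r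
  let J : Ideal Γ(X, V') := (⊥ : Ideal Γ(X, V')).colon {r'}
  have hJ : ∀ x : Γ(X, V'), x ∈ J ↔ x * r' = 0 := fun x => by
    rw [Submodule.mem_colon_singleton, Submodule.mem_bot, smul_eq_mul]
  let q := (hV'.primeIdealOf ⟨z, hzV'⟩).asIdeal
  suffices hnle : ¬ J ≤ q by
    obtain ⟨t, ht, htq⟩ := SetLike.not_le_iff_exists.mp hnle
    letI := TopCat.Presheaf.algebra_section_stalk X.presheaf (⟨z, hzV'⟩ : V')
    haveI := hV'.isLocalization_stalk ⟨z, hzV'⟩
    have h0 : algebraMap Γ(X, V') (X.presheaf.stalk z) r' = 0 :=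
      (IsLocalization.map_eq_zero_iff q.primeCompl _ _).mpr ⟨⟨t, htq⟩, (hJ t).mp ht⟩
    have h1 : X.presheaf.germ V' z hzV' r' = 0 := h0
    have h2 : X.presheaf.germ V' z hzV' r' = X.presheaf.germ V z hz r :=
      TopCat.Presheaf.germ_res_apply _ _ _ _ _
    exact (h2.symm.trans h1).trans (map_zero _).symm
  intro hle'
  obtain ⟨p, hp, -⟩ := Ideal.exists_minimalPrimes_le hle'
  haveI := hp.1.1
  obtain ⟨w, hw, hwp⟩ : ∃ w, ∃ hw : w ∈ V', (hV'.primeIdealOf ⟨w, hw⟩) = ⟨p, hp.1.1⟩ := by
    refine ⟨hV'.fromSpec ⟨p, hp.1.1⟩, by rw [← SetLike.mem_coe, ← hV'.range_fromSpec]; exact ⟨_, rfl⟩,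
      hV'.fromSpec.isOpenEmbedding.injective ?_⟩
    rw [hV'.fromSpec_primeIdealOf]
  letI := TopCat.Presheaf.algebra_section_stalk X.presheaf (⟨w, hw⟩ : V')
  haveI : IsLocalization.AtPrime (X.presheaf.stalk w) p := by
    convert hV'.isLocalization_stalk ⟨w, hw⟩
    rw [hwp]
  suffices h0 : algebraMap Γ(X, V') (X.presheaf.stalk w) r' = 0 by
    obtain ⟨t, ht⟩ := (IsLocalization.map_eq_zero_iff p.primeCompl _ _).mp h0
    exact t.2 (hp.1.2 ((hJ _).mpr ht))
  by_cases hwU : w ∈ U
  · have h0 := congrArg (X.presheaf.germ (V ⊓ U) w ⟨hle hw, hwU⟩) hr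
    rw [map_zero, TopCat.Presheaf.germ_res_apply] at h0
    show X.presheaf.germ V' w hw r' = 0
    have h2 : X.presheaf.germ V' w hw r' = X.presheaf.germ V w (hle hw) r :=
      TopCat.Presheaf.germ_res_apply _ _ _ _ _
    exact h2.trans h0
  obtain ⟨a, ha, hreg⟩ := h w (hle hw) hwU
  have hrad : a ∈ (J.map (algebraMap Γ(X, V') (X.presheaf.stalk w))).radical := by
    rw [Ideal.radical_eq_sInf, Submodule.mem_sInf]
    rintro K ⟨hJK, hK⟩
    haveI := hK
    have hc : Ideal.comap (algebraMap Γ(X, V') (X.presheaf.stalk w)) K ≤ p := by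
      conv_rhs => rw [← IsLocalization.AtPrime.under_maximalIdeal (X.presheaf.stalk w) p]
      exact fun x hx => le_maximalIdeal hK.ne_top hx
    have hpK : p ≤ Ideal.comap (algebraMap Γ(X, V') (X.presheaf.stalk w)) K :=
      hp.2 ⟨Ideal.IsPrime.comap _, Ideal.map_le_iff_le_comap.mp hJK⟩ hc
    have hmK : maximalIdeal (X.presheaf.stalk w) ≤ K := by
      rw [← IsLocalization.AtPrime.map_eq_maximalIdeal p (X.presheaf.stalk w)]
      exact Ideal.map_le_iff_le_comap.mpr hpK
    exact hmK ha
  obtain ⟨N, hN⟩ := hrad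
  obtain ⟨⟨⟨g, hg⟩, t⟩, hgt⟩ := (IsLocalization.mem_map_algebraMap_iff p.primeCompl _).mp hN
  refine (hreg.pow N).right_eq_zero_of_smul ?_
  refine (IsLocalization.map_units (X.presheaf.stalk w) t).mul_left_eq_zero.mp ?_
  rw [smul_eq_mul, mul_right_comm, hgt, ← map_mul, (hJ g).mp hg, map_zero]

/-- An open is schematically dense if every point outside it has a nonzerodivisor in its maximal ideal. -/
theorem isSchematicallyDense_of_regular {X : Scheme.{u}} (U : X.Opens)
    (h : ∀ w : X, w ∉ U → ∃ a ∈ maximalIdeal (X.presheaf.stalk w), IsSMulRegular (X.presheaf.stalk w) a) :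
    CInt.IsSchematicallyDense U := fun V => by
  rw [injective_iff_map_eq_zero]
  exact fun r hr => eq_zero_of_regular V U r hr fun w _ hw => h w hw

end Groth.Agent.H26Base.FibreReg
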