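import Groth.Prelude.Def_GalTw2
import Groth.Agent.H13Desc.GaloisHom

/-!
# Galois twists: descent of morphisms and isomorphisms fixed by the Galois group
-/

set_option autoImplicit false
set_option linter.style.haveILetI false

universe u

open CategoryTheory CategoryTheory.Limits AlgebraicGeometry GalTw

namespace Groth.Agent.H26Base.GalTwist

variable {k : Type u} [Field k] {K : Type u} [Field K] [Algebra k K]
  {X Y Z : Over (Spec (CommRingCat.of k))}

/-- The base change of a morphism over `k`. -/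
noncomputable abbrev bcHom (f : X ⟶ Y) : bcK K X ⟶ bcK K Y :=
  (Over.pullback (SGA7.pt (K := k) K).hom).map f

theorem bcHom_fst (f : X ⟶ Y) :
    (bcHom (K := K) f).left ≫ pullback.fst _ _ = pullback.fst _ _ ≫ f.left := pullback.lift_fst _ _ _

theorem bcHom_snd (f : X ⟶ Y) :
    (bcHom (K := K) f).left ≫ pullback.snd _ _ = pullback.snd _ _ := pullback.lift_snd _ _ _

theorem galMap_bcHom (σ : K ≃ₐ[k] K) (f : X ⟶ Y) :
    galMap K σ X ≫ (bcHom (K := K) f).left = (bcHom (K := K) f).left ≫ galMap K σ Y := by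
  apply pullback.hom_ext
  · rw [Category.assoc, Category.assoc, bcHom_fst, galMap_fst_assoc, galMap_fst, bcHom_fst]
  · rw [Category.assoc, Category.assoc, bcHom_snd, galMap_snd, galMap_snd, reassoc_of% bcHom_snd]

theorem twHom_bcHom (σ : K ≃ₐ[k] K) (f : X ⟶ Y) :
    twHom σ (bcHom (K := K) f) = bcHom f := by
  ext1
  rw [twHom_left, ← Category.assoc, galMap_bcHom, Category.assoc, galMap_mul, mul_inv_cancel, galMap_one,
    Category.comp_id]

/-- An isomorphism over `k` after base change. -/
noncomputable abbrev bcIso (e : X ≅ Y) : bcK K X ≅ bcK K Y := (Over.pullback (SGA7.pt (K := k) K).hom).mapIso e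

theorem twIso_bcIso (σ : K ≃ₐ[k] K) (e : X ≅ Y) : twIso σ (bcIso (K := K) e) = bcIso e :=
  Iso.ext (twHom_bcHom σ e.hom)

variable [FiniteDimensional k K] [IsGalois k K]

/-- The projection of a base change to a field extension is cancellable. -/
theorem cancel_fst {W : Scheme.{u}} {a b : X.left ⟶ W}
    (h : pullback.fst X.hom (SGA7.pt (K := k) K).hom ≫ a = pullback.fst X.hom (SGA7.pt (K := k) K).hom ≫ b) :
    a = b := by
  have hc1 : Flat (SGA7.pt (K := k) K).hom :=
    Flat.SpecMap_iff.mpr (RingHom.flat_algebraMap_iff.mpr (inferInstance : Module.Flat k K))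
  have hc2 : Surjective (SGA7.pt (K := k) K).hom :=
    ⟨fun y => ⟨IsLocalRing.closedPoint K, Subsingleton.elim _ _⟩⟩
  haveI : QuasiCompact (SGA7.pt (K := k) K).hom :=
    inferInstanceAs (QuasiCompact (Spec.map (CommRingCat.ofHom (algebraMap k K))))
  haveI : Flat (pullback.fst X.hom (SGA7.pt (K := k) K).hom) := inferInstance
  haveI : Surjective (pullback.fst X.hom (SGA7.pt (K := k) K).hom) := inferInstance
  haveI : QuasiCompact (pullback.fst X.hom (SGA7.pt (K := k) K).hom) := inferInstance
  exact (cancel_epi _).1 h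

/-- A morphism of base changes fixed by the Galois group is defined over `k`. -/
theorem exists_hom_of_twHom_eq (ψ : bcK K X ⟶ bcK K Y) (h : ∀ σ : K ≃ₐ[k] K, twHom σ ψ = ψ) :
    ∃ f : X ⟶ Y, bcHom f = ψ := by
  have hcomm : ∀ σ : K ≃ₐ[k] K, galMap K σ X ≫ ψ.left = ψ.left ≫ galMap K σ Y := fun σ => by
    have h1 := congrArg (fun m : bcK K X ⟶ bcK K Y => m.left) (h σ)
    rw [twHom_left] at h1
    conv_rhs => rw [← h1]
    rw [Category.assoc, Category.assoc, galMap_mul, inv_mul_cancel, galMap_one, Category.comp_id]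
  obtain ⟨f, hf⟩ := H13Desc.GaloisHom.exists_desc (k := k) (K := K) X.hom (fun σ => galMap K σ X)
    (fun σ => galMap_fst K σ X) (fun σ => galMap_snd K σ X)
    (ψ.left ≫ pullback.fst Y.hom (SGA7.pt (K := k) K).hom)
    (fun σ => by erw [← Category.assoc, hcomm, Category.assoc, galMap_fst])
  have hw : f ≫ Y.hom = X.hom := cancel_fst (K := K) (by
    rw [← Category.assoc]
    erw [hf]
    rw [Category.assoc, pullback.condition, ← Category.assoc]
    erw [Over.w ψ]
    exact pullback.condition.symm)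
  refine ⟨Over.homMk f hw, ?_⟩
  ext1
  apply pullback.hom_ext
  · rw [bcHom_fst]
    exact hf
  · rw [bcHom_snd]
    exact (Over.w ψ).symm

theorem bcHom_injective {f g : X ⟶ Y} (h : bcHom (K := K) f = bcHom g) : f = g := by
  ext1
  refine cancel_fst (K := K) ?_
  rw [← bcHom_fst, h, bcHom_fst]

/-- An isomorphism of base changes fixed by the Galois group is defined over `k`. -/
theorem exists_iso_of_twIso_eq (ψ : bcK K X ≅ bcK K Y) (h : ∀ σ : K ≃ₐ[k] K, twIso σ ψ = ψ) :
    ∃ e : X ≅ Y, bcIso e = ψ := by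
  obtain ⟨f, hf⟩ := exists_hom_of_twHom_eq ψ.hom fun σ => congrArg Iso.hom (h σ)
  obtain ⟨g, hg⟩ := exists_hom_of_twHom_eq ψ.inv fun σ => congrArg Iso.inv (h σ)
  have h1 : f ≫ g = 𝟙 _ := bcHom_injective (K := K) (by
    rw [bcHom, Functor.map_comp]
    show bcHom f ≫ bcHom g = _
    rw [hf, hg, Iso.hom_inv_id]
    exact (CategoryTheory.Functor.map_id _ _).symm)
  have h2 : g ≫ f = 𝟙 _ := bcHom_injective (K := K) (by
    rw [bcHom, Functor.map_comp]
    show bcHom g ≫ bcHom f = _
    rw [hf, hg, Iso.inv_hom_id]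
    exact (CategoryTheory.Functor.map_id _ _).symm)
  exact ⟨⟨f, g, h1, h2⟩, Iso.ext hf⟩

end Groth.Agent.H26Base.GalTwist

namespace Groth.Agent.H26Base.GalTwist

open MonObj MonoidalCategory CartesianMonoidalCategory
open scoped CategoryTheory.Obj

variable {k : Type u} [Field k] {K : Type u} [Field K] [Algebra k K] [FiniteDimensional k K] [IsGalois k K]
  {G G' : Over (Spec (CommRingCat.of k))} [GrpObj G] [GrpObj G']

/-- Being a homomorphism can be checked after base change to a finite Galois extension. -/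
theorem isMonHom_of_bcHom (f : G ⟶ G') [h : IsMonHom (bcHom (K := K) f)] : IsMonHom f := by
  let F := Over.pullback (SGA7.pt (K := k) K).hom
  constructor
  · refine bcHom_injective (K := K) ((cancel_epi (Functor.LaxMonoidal.ε F)).1 ?_)
    have h1 : (Functor.LaxMonoidal.ε F ≫ F.map η[G]) ≫ F.map f = Functor.LaxMonoidal.ε F ≫ F.map η[G'] :=
      h.one_hom
    rw [bcHom, Functor.map_comp, ← Category.assoc]
    exact h1
  · refine bcHom_injective (K := K) ((cancel_epi (Functor.LaxMonoidal.μ F G G)).1 ?_)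
    have h1 : (Functor.LaxMonoidal.μ F G G ≫ F.map μ[G]) ≫ F.map f =
        (F.map f ⊗ₘ F.map f) ≫ Functor.LaxMonoidal.μ F G' G' ≫ F.map μ[G'] := h.mul_hom
    rw [bcHom, Functor.map_comp, ← Category.assoc, h1, Functor.LaxMonoidal.μ_natural_assoc]
    rw [bcHom, Functor.map_comp]

end Groth.Agent.H26Base.GalTwist
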