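import Groth.Agent.H11Ample.Tensor
import Groth.Agent.H11Ample.Ample
import Groth.Agent.H11Ample.Affine
import Groth.Agent.H11Proj.VeryAmpleOn

/-!
# One section of an invertible module generating at finitely many points
-/

set_option autoImplicit false
set_option linter.style.haveILetI false

noncomputable section

universe u

open CategoryTheory CategoryTheory.Limits AlgebraicGeometry Opposite TopologicalSpace
open Groth.Agent.H11Tilde Groth.Agent.H11Ample

namespace Groth.Agent.H26Base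

variable {X : Scheme.{u}} {L M N A : X.Modules}

/-- Separating opens around the maximal points of a finite set. -/
theorem exists_avoid {Z : Set X} (hZ : Z.Finite) :
    ∃ (T : Type u) (_ : Fintype T) (w : T → X) (O : T → X.Opens),
      (∀ t, w t ∈ O t) ∧ (∀ t t', t ≠ t' → w t ∉ O t') ∧ ∀ z ∈ Z, ∃ t, z ⤳ w t := by
  classical
  let Z₀ := hZ.toFinset
  let T := {w : X // w ∈ Z₀ ∧ ∀ v ∈ Z₀, w ⤳ v → v ⤳ w}
  haveI : Finite T := Finite.of_injective (fun w : T => (⟨w.1, w.2.1⟩ : Z₀))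
    fun a b h => Subtype.ext (congrArg (fun q : Z₀ => q.1) h)
  let O : T → X.Opens := fun w => ⟨⋂ v ∈ {v : T | v.1 ≠ w.1}, (closure {v.1})ᶜ,
    Set.Finite.isOpen_biInter (Set.toFinite _) fun v _ => isClosed_closure.isOpen_compl⟩
  refine ⟨T, Fintype.ofFinite T, fun w => w.1, O, fun w => ?_, fun t t' htt' h => ?_, fun z hz => ?_⟩
  · refine Set.mem_iInter₂.2 fun v hv hmem => hv ?_
    have hvw : v.1 ⤳ w.1 := specializes_iff_mem_closure.2 hmem
    exact (hvw.antisymm (v.2.2 w.1 w.2.1 hvw)).eq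
  · exact Set.mem_iInter₂.1 h t (fun e => htt' (Subtype.ext e)) (subset_closure rfl)
  · obtain ⟨w, hw, hzw, hmax⟩ := exists_maximal_special (hZ.mem_toFinset.2 hz)
    exact ⟨⟨w, hw, hmax⟩, hzw⟩

/-- The sum of sections, each generating at its own point only, generates at all the points. -/
theorem mem_gen_sum (hM : PicF.IsInvertible M) {T : Type u} [Fintype T] (w : T → X) (O : T → X.Opens)
    (hO : ∀ t t', t ≠ t' → w t ∉ O t') (s : T → Γ(M, ⊤)) (hs : ∀ t, w t ∈ gen M (s t)) (hsO : ∀ t, gen M (s t) ≤ O t)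
    (t : T) : w t ∈ gen M (∑ i, s i) := by
  classical
  obtain ⟨V, e, hyV, he⟩ := exists_gen hM (w t)
  choose c hc using fun i => exists_coeff he (M.presheaf.map (homOfLE le_top).op (s i))
  have hsum : M.presheaf.map (homOfLE (le_top : V ≤ ⊤)).op (∑ i, s i) = (∑ i, c i) • e := by
    rw [Finset.sum_smul]
    exact (map_sum _ _ _).trans (Finset.sum_congr rfl fun i _ => hc i)
  have hiff : ∀ (g : Γ(M, ⊤)) (d : Γ(X, V)), M.presheaf.map (homOfLE (le_top : V ≤ ⊤)).op g = d • e →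
      (IsUnit (X.presheaf.germ V (w t) hyV d) ↔ w t ∈ gen M g) := fun g d hd =>
    ⟨fun h => ((gen_inf_eq_basicOpen he g d hd).ge ((X.mem_basicOpen _ _ hyV).2 h)).1,
      fun h => (X.mem_basicOpen _ _ hyV).1 ((gen_inf_eq_basicOpen he g d hd).le ⟨h, hyV⟩)⟩
  refine (hiff _ _ hsum).1 ?_
  rw [map_sum, ← Finset.add_sum_erase _ _ (Finset.mem_univ t)]
  have h1 := (hiff _ _ (hc t)).2 (hs t)
  have h2 : ∑ v ∈ Finset.univ.erase t, X.presheaf.germ V (w t) hyV (c v) ∈
      IsLocalRing.maximalIdeal (X.presheaf.stalk (w t)) := by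
    refine Ideal.sum_mem _ fun v hv => (IsLocalRing.mem_maximalIdeal _).2 fun hu => ?_
    exact hO t v (Finset.ne_of_mem_erase hv).symm (hsO v ((hiff _ _ (hc v)).1 hu))
  by_contra hne
  refine (IsLocalRing.mem_maximalIdeal _).1 ?_ h1
  have := Ideal.sub_mem _ ((IsLocalRing.mem_maximalIdeal _).2 hne) h2
  rwa [add_sub_cancel_right] at this

/-- A section generating at finitely many points, from sections generating near each. -/
theorem exists_gen_of_local (hM : PicF.IsInvertible M) {Z : Set X} (hZ : Z.Finite)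
    (h : ∀ (x : X) (V : X.Opens), x ∈ V → ∃ s : Γ(M, ⊤), x ∈ gen M s ∧ gen M s ≤ V) :
    ∃ s : Γ(M, ⊤), Z ⊆ gen M s := by
  obtain ⟨T, _, w, O, hwO, hO, hZw⟩ := exists_avoid hZ
  choose s hs hsO using fun t => h (w t) (O t) (hwO t)
  exact ⟨∑ t, s t, fun z hz => (hZw z hz).choose_spec.mem_open (gen M _).isOpen
    (mem_gen_sum hM w O hO s hs hsO _)⟩

/-! ### Affine schemes -/

theorem exists_gen_le_of_isAffine [IsAffine X] (hL : PicF.IsInvertible L) (x : X) (V : X.Opens) (hx : x ∈ V) :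
    ∃ s : Γ(L, ⊤), x ∈ gen L s ∧ gen L s ≤ V := by
  haveI : L.IsQuasicoherent := H28Mero.isQCoh_of_isInvertible hL
  obtain ⟨W, e, hxW, he⟩ := exists_gen hL x
  obtain ⟨f, hfV, hxf⟩ := (isAffineOpen_top X).exists_basicOpen_le (V := W ⊓ V) ⟨x, hxW, hx⟩ trivial
  obtain ⟨p, t, ht⟩ := H10Coh.exists_pow_smul_eq_res L (isAffineOpen_top X) f
    (L.presheaf.map (homOfLE (hfV.trans inf_le_left)).op e)
  have h := gen_eq_of_res hL f t (he.res (hfV.trans inf_le_left)) ht
  exact ⟨f • t, h.ge hxf, h.le.trans (hfV.trans inf_le_right)⟩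

/-- An invertible module is trivial on an affine neighbourhood of finitely many points of an affine open. -/
theorem exists_affine_trivial (hL : PicF.IsInvertible L) {U : X.Opens} (hU : IsAffineOpen U) {Z : Set X}
    (hZ : Z.Finite) (hZU : Z ⊆ U) :
    ∃ U' : X.Opens, IsAffineOpen U' ∧ Z ⊆ U' ∧
      Nonempty (L.restrict U'.ι ≅ Coh.structureModule (↑U' : Scheme.{u})) := by
  haveI : IsAffine U.toScheme := hU
  have hLU : PicF.IsInvertible (L.restrict U.ι) := isInvertible_of_gen fun y => by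
    obtain ⟨V, e, hy, he⟩ := exists_gen hL (U.ι y)
    have hle : U.ι ''ᵁ (U.ι ⁻¹ᵁ V) ≤ V := by
      rw [Scheme.Hom.image_preimage_eq_opensRange_inf]; exact inf_le_right
    exact ⟨U.ι ⁻¹ᵁ V, _, hy, isGen_restrict U he hle⟩
  obtain ⟨s, hs⟩ := exists_gen_of_local hLU (Z := U.ι ⁻¹' Z) (hZ.preimage U.ι.isOpenEmbedding.injective.injOn)
    fun x V hx => exists_gen_le_of_isAffine hLU x V hx
  have haff : IsAffineOpen (gen (L.restrict U.ι) s) := by
    haveI := isAffineHom_gen_ι hLU s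
    exact isAffine_of_isAffineHom (gen (L.restrict U.ι) s).ι
  refine ⟨U.ι ''ᵁ gen (L.restrict U.ι) s, haff.image_of_isOpenImmersion _, fun z hz => ?_, ?_⟩
  · exact ⟨⟨z, hZU hz⟩, hs hz, rfl⟩
  · have hg := H11Proj.isGen_toImg U (isGen_gen (L := L.restrict U.ι) s)
    exact nonempty_iso_structureModule L _ _ fun W hW => hg.bijective hW

/-! ### Large twists -/

theorem exists_iso_twist_add (hL : PicF.IsInvertible L) (hA : PicF.IsInvertible A) (m k : ℕ) :
    Nonempty (CohB1.tensorMod (CohB1.tensorMod L (CohB1.tensorPow A m)) (CohB1.tensorPow A k) ≅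
      CohB1.tensorMod L (CohB1.tensorPow A (m + k))) := by
  let J := {p : Σ V : X.Opens, Γ(L, V) × Γ(A, V) // IsGen L p.2.1 ∧ IsGen A p.2.2}
  obtain ⟨φ, -⟩ := exists_iso_of_gen (fun j : J => j.1.1)
    (fun x => by
      obtain ⟨V, e, hx, he⟩ := exists_gen hL x
      obtain ⟨W, f, hx', hf⟩ := exists_gen hA x
      exact ⟨⟨⟨V ⊓ W, _, _⟩, he.res inf_le_left, hf.res inf_le_right⟩, hx, hx'⟩)
    (fun j => tm (tm j.1.2.1 (spow j.1.2.2 m)) (spow j.1.2.2 k))
    (fun j => isGen_tm (isGen_tm j.2.1 (isGen_spow j.2.2 m)) (isGen_spow j.2.2 k))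
    (fun j => tm j.1.2.1 (spow j.1.2.2 (m + k)))
    (fun j => isGen_tm j.2.1 (isGen_spow j.2.2 (m + k))) fun i j u hu => by
      obtain ⟨a, ha⟩ := transition (ei := i.1.2.1) j.2.1
      obtain ⟨b, hb⟩ := transition (ei := i.1.2.2) j.2.2
      rw [tm_res, tm_res, tm_res, tm_res, spow_res, spow_res, spow_res, spow_res, ha, hb, spow_smul, spow_smul] at hu
      simp only [tm_smul_left, tm_smul_right, smul_smul] at hu
      have := ((isGen_tm (isGen_tm (j.2.1.res inf_le_right) (isGen_spow (j.2.2.res inf_le_right) m))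
        (isGen_spow (j.2.2.res inf_le_right) k)).bijective le_rfl).1
        (a₁ := b ^ k * (b ^ m * a)) (a₂ := u) (by beta_reduce; rw [H10Coh.mres_self]; exact hu)
      rw [tm_res, tm_res, spow_res, spow_res, ha, hb, spow_smul, tm_smul_left, tm_smul_right, smul_smul, ← this,
        pow_add]
      congr 1
      ring
  exact ⟨φ⟩

theorem eventually_gen_le [CompactSpace X] [QuasiSeparatedSpace X] (hA : CohB1.IsAmple A) (hL : PicF.IsInvertible L)
    {x : X} {V : X.Opens} (hx : x ∈ V) :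
    ∃ N₀, ∀ N, N₀ ≤ N → ∃ s : Γ(CohB1.tensorMod L (CohB1.tensorPow A N), ⊤),
      x ∈ gen _ s ∧ gen _ s ≤ V := by
  obtain ⟨hA', -, -⟩ := isAmple_iff.1 hA
  obtain ⟨k, a, -, hxa, haV, -⟩ := exists_affine_gen_le hA hx
  obtain ⟨n₀, hn₀⟩ := eventually_globallyGenerated hA (isCoh_of_isInvertible hL)
  refine ⟨n₀ + k, fun N hN => ?_⟩
  obtain ⟨m, rfl⟩ : ∃ m, N = m + k := ⟨N - k, by omega⟩
  have hM := isInvertible_tensor hL (isInvertible_tensorPow hA' m)
  obtain ⟨g, hg⟩ := exists_mem_gen_of_isGloballyGenerated hM (hn₀ m (by omega)) x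
  obtain ⟨φ⟩ := exists_iso_twist_add hL hA' m k
  refine ⟨φ.hom.app ⊤ (tm g a), ?_, ?_⟩
  · rw [gen_iso, gen_tm hM (isInvertible_tensorPow hA' k)]
    exact ⟨hg, hxa⟩
  · rw [gen_iso, gen_tm hM (isInvertible_tensorPow hA' k)]
    exact inf_le_right.trans haV

theorem eventually_exists_gen [CompactSpace X] [QuasiSeparatedSpace X] (hA : CohB1.IsAmple A) (hL : PicF.IsInvertible L)
    {Z : Set X} (hZ : Z.Finite) :
    ∃ N₀, ∀ N, N₀ ≤ N → ∃ s : Γ(CohB1.tensorMod L (CohB1.tensorPow A N), ⊤), Z ⊆ gen _ s := by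
  obtain ⟨hA', -, -⟩ := isAmple_iff.1 hA
  obtain ⟨T, _, w, O, hwO, hO, hZw⟩ := exists_avoid hZ
  choose N₀ hN₀ using fun t => eventually_gen_le hA hL (hwO t)
  refine ⟨Finset.univ.sup N₀, fun N hN => ?_⟩
  choose s hs hsO using fun t => hN₀ t N ((Finset.le_sup (Finset.mem_univ t)).trans hN)
  exact ⟨∑ t, s t, fun z hz => (hZw z hz).choose_spec.mem_open (gen _ _).isOpen
    (mem_gen_sum (isInvertible_tensor hL (isInvertible_tensorPow hA' N)) w O hO s hs hsO _)⟩

end Groth.Agent.H26Base
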