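import Groth.Agent.H24Def.GlobalFibre
import Mathlib

/-! Global functions modulo powers of the maximal ideal on a flat scheme over a local ring. -/

set_option autoImplicit false
set_option linter.style.haveILetI false

universe u

open CategoryTheory AlgebraicGeometry TopologicalSpace Opposite IsLocalRing

namespace Groth.Agent.H26Base.FormalGlobal

open Groth.Agent.H24Def

variable {C : Type u} [CommRing C] [IsLocalRing C] {X X₀ : Scheme.{u}} {g : X ⟶ Spec (CommRingCat.of C)}
  (i : X₀ ⟶ X) (f₀ : X₀ ⟶ Spec (CommRingCat.of (C ⧸ maximalIdeal C)))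
  (hsq : IsPullback i f₀ g (Spec.map (CommRingCat.ofHom (Ideal.Quotient.mk (maximalIdeal C)))))

include hsq

/-- Compatible families modulo `J` on affine opens come from a unique scalar. -/
theorem compatible_family [IsNoetherianRing C] [Flat g]
    (h0 : Function.Bijective (scalar f₀ (⊤ : X₀.Opens))) (J : Ideal C) (hpow : ∃ n, maximalIdeal C ^ n ≤ J) :
    (∀ x : ∀ U : X.affineOpens, Γ(X, U.1),
      (∀ (U V : X.affineOpens) (h : V.1 ≤ U.1),
        X.presheaf.map (homOfLE h).op (x U) - x V ∈ J.map (scalar g V.1)) →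
      ∃ c : C, ∀ U : X.affineOpens, x U - scalar g U.1 c ∈ J.map (scalar g U.1)) ∧
    (∀ c : C, (∀ U : X.affineOpens, scalar g U.1 c ∈ J.map (scalar g U.1)) → c ∈ J) := by
  induction J using WellFoundedGT.induction with
  | ind J ih =>
  by_cases hJ : J = ⊤
  · subst hJ
    refine ⟨fun x _ => ⟨0, fun U => ?_⟩, fun c _ => trivial⟩
    rw [Ideal.map_top]
    trivial
  obtain ⟨t, htJ, hmt⟩ : ∃ t ∉ J, ∀ a ∈ maximalIdeal C, a * t ∈ J := by
    classical
    have hex : ∃ n, maximalIdeal C ^ n ≤ J := hpow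
    have hspec := Nat.find_spec hex
    rcases hfind : Nat.find hex with _ | m
    · rw [hfind, pow_zero, Ideal.one_eq_top] at hspec
      exact absurd (top_le_iff.mp hspec) hJ
    · rw [hfind] at hspec
      obtain ⟨t, ht, htJ⟩ := SetLike.not_le_iff_exists.mp (Nat.find_min hex (m := m) (by omega))
      exact ⟨t, htJ, fun a ha => hspec (by rw [pow_succ']; exact Ideal.mul_mem_mul ha ht)⟩
  have hcolon : ∀ a, a * t ∈ J ↔ a ∈ maximalIdeal C := fun a => by
    refine ⟨fun ha => ?_, hmt a⟩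
    by_contra hu
    rw [mem_maximalIdeal, mem_nonunits_iff, not_not] at hu
    obtain ⟨b, rfl⟩ := hu
    exact htJ (by simpa [← mul_assoc] using J.mul_mem_left (↑b⁻¹ : C) ha)
  obtain ⟨ihE, ihI⟩ := ih (J ⊔ Ideal.span {t}) (Submodule.lt_sup_iff_notMem.mpr htJ)
    ⟨_, hpow.choose_spec.trans le_sup_left⟩
  have hmem : ∀ (U : X.affineOpens) (b : Γ(X, U.1)),
      scalar g U.1 t * b ∈ J.map (scalar g U.1) → i.app U.1 b = 0 := by
    intro U b hb
    rw [app_eq_zero_iff i f₀ hsq U.2]
    letI := (scalar g U.1).toAlgebra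
    haveI : Module.Flat C Γ(X, U.1) := flat_scalar g U.2
    exact mem_map_of_mul_mem_map hcolon hb
  have hcover : ∀ W : X.Opens, i ⁻¹ᵁ W ≤ ⨆ U : {U : X.affineOpens // U.1 ≤ W}, i ⁻¹ᵁ U.1.1 := by
    intro W x hx
    obtain ⟨_, ⟨U, hU, rfl⟩, hxU, hUW⟩ := X.isBasis_affineOpens.exists_subset_of_mem_open
      (show i x ∈ (W : Set X) from hx) W.2
    exact Opens.mem_iSup.mpr ⟨⟨⟨U, hU⟩, hUW⟩, hxU⟩
  refine ⟨fun x hx => ?_, fun c hc => ?_⟩
  · obtain ⟨c, hc⟩ := ihE x fun U V h => Ideal.map_mono le_sup_left (hx U V h)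
    have hb : ∀ U : X.affineOpens, ∃ b : Γ(X, U.1),
        x U - scalar g U.1 c - scalar g U.1 t * b ∈ J.map (scalar g U.1) := by
      intro U
      have h1 := hc U
      rw [Ideal.map_sup, Ideal.map_span, Set.image_singleton, Submodule.mem_sup] at h1
      obtain ⟨a, ha, z, hz, he⟩ := h1
      obtain ⟨b, rfl⟩ := Ideal.mem_span_singleton'.mp hz
      exact ⟨b, by rw [← he, mul_comm b, add_sub_cancel_right]; exact ha⟩
    choose b hb using hb
    have hcompat : ∀ (U V : X.affineOpens) (h : V.1 ≤ U.1),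
        X₀.presheaf.map (homOfLE (i.preimage_mono h)).op (i.app U.1 (b U)) = i.app V.1 (b V) := by
      intro U V h
      have h1 := map_scalar_ideal g h J (hb U)
      rw [map_sub, map_sub, map_mul, map_scalar, map_scalar] at h1
      have h2 : scalar g V.1 t * (X.presheaf.map (homOfLE h).op (b U) - b V) ∈ J.map (scalar g V.1) := by
        have := sub_mem (sub_mem (hx U V h) h1) (neg_mem (hb V))
        convert this using 1
        ring
      have h3 := hmem V _ h2
      rw [map_sub, sub_eq_zero] at h3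
      rw [← h3]
      exact (ConcreteCategory.congr_hom (i.naturality (homOfLE h).op) (b U)).symm
    obtain ⟨y, hy, -⟩ := X₀.sheaf.existsUnique_gluing' (fun U : X.affineOpens => i ⁻¹ᵁ U.1) ⊤
      (fun U => homOfLE le_top) (fun x _ => by
        obtain ⟨U, hU⟩ := Opens.mem_iSup.mp (hcover ⊤ (show x ∈ i ⁻¹ᵁ ⊤ from trivial))
        exact Opens.mem_iSup.mpr ⟨U.1, hU⟩)
      (fun U => i.app U.1 (b U)) (fun U V => by
        apply X₀.sheaf.eq_of_locally_eq' (fun W : {W : X.affineOpens // W.1 ≤ U.1 ⊓ V.1} => i ⁻¹ᵁ W.1.1)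
          (i ⁻¹ᵁ U.1 ⊓ i ⁻¹ᵁ V.1) (fun W => homOfLE (le_inf (i.preimage_mono (W.2.trans inf_le_left))
            (i.preimage_mono (W.2.trans inf_le_right)))) (hcover (U.1 ⊓ V.1))
        intro W
        change (X₀.presheaf.map _ ≫ X₀.presheaf.map _) _ = (X₀.presheaf.map _ ≫ X₀.presheaf.map _) _
        rw [← Functor.map_comp, ← Functor.map_comp]
        exact (hcompat U W.1 (W.2.trans inf_le_left)).trans (hcompat V W.1 (W.2.trans inf_le_right)).symm)
    obtain ⟨a0, ha0⟩ := h0.2 y
    obtain ⟨a, rfl⟩ := Ideal.Quotient.mk_surjective a0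
    refine ⟨c + a * t, fun U => ?_⟩
    have h1 : i.app U.1 (b U - scalar g U.1 a) = 0 := by
      rw [map_sub, app_scalar i f₀ hsq, ← hy U, ← ha0, sub_eq_zero]
      exact map_scalar f₀ le_top _
    rw [app_eq_zero_iff i f₀ hsq U.2] at h1
    have h2 : scalar g U.1 t * (b U - scalar g U.1 a) ∈ J.map (scalar g U.1) := by
      have hle : Ideal.span {scalar g U.1 t} * (maximalIdeal C).map (scalar g U.1) ≤ J.map (scalar g U.1) := by
        rw [← Set.image_singleton, ← Ideal.map_span, ← Ideal.map_mul]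
        refine Ideal.map_mono (Ideal.mul_le.mpr fun r hr s hs => ?_)
        obtain ⟨d, rfl⟩ := Ideal.mem_span_singleton'.mp hr
        rw [mul_assoc, mul_comm t]
        exact J.mul_mem_left _ (hmt s hs)
      exact hle (Ideal.mul_mem_mul (Ideal.mem_span_singleton_self _) h1)
    have := add_mem (hb U) h2
    convert this using 1
    rw [map_add, map_mul]
    ring
  · have h1 := ihI c fun U => Ideal.map_mono le_sup_left (hc U)
    obtain ⟨j, hj, z, hz, rfl⟩ := Submodule.mem_sup.mp h1
    obtain ⟨a, rfl⟩ := Ideal.mem_span_singleton'.mp hz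
    have ha : scalar f₀ ⊤ (Ideal.Quotient.mk (maximalIdeal C) a) = 0 := by
      apply X₀.sheaf.eq_of_locally_eq' (fun U : X.affineOpens => i ⁻¹ᵁ U.1) ⊤ (fun U => homOfLE le_top)
        (fun x _ => by
          obtain ⟨U, hU⟩ := Opens.mem_iSup.mp (hcover ⊤ (show x ∈ i ⁻¹ᵁ ⊤ from trivial))
          exact Opens.mem_iSup.mpr ⟨U.1, hU⟩)
      intro U
      change X₀.presheaf.map (homOfLE le_top).op _ = X₀.presheaf.map (homOfLE le_top).op _
      rw [map_scalar, map_zero, ← app_scalar i f₀ hsq]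
      apply hmem U
      have h2 := sub_mem (hc U) (Ideal.mem_map_of_mem (scalar g U.1) hj)
      rw [map_add, add_sub_cancel_left, map_mul] at h2
      rwa [mul_comm]
    refine add_mem hj (hmt a (Ideal.Quotient.eq_zero_iff_mem.mp (h0.1 ?_)))
    rw [ha, map_zero]

end Groth.Agent.H26Base.FormalGlobal
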