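import Groth.Agent.H26Base.FibreReg
import Groth.Agent.H8Props.HartogsTwo

/-!
# Extension of functions from opens which are not quasi-compact
-/

set_option autoImplicit false
set_option linter.style.haveILetI false

universe u

open AlgebraicGeometry CategoryTheory IsLocalRing TopologicalSpace
open RingTheory.Sequence

namespace Groth.Agent.H26Base.HartogsBig

variable {X : Scheme.{u}}

/-- Around every point outside `W` there are two functions vanishing at the point, forming a regular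
sequence in all local rings near it. -/
def HasPairsNhd (W : X.Opens) : Prop :=
  ∀ z : X, z ∉ W → ∃ (N : X.Opens) (_ : IsAffineOpen N) (a b : Γ(X, N)),
    z ∈ N ∧ z ∉ X.basicOpen a ∧ z ∉ X.basicOpen b ∧ ∀ (y : X) (hy : y ∈ N),
      IsWeaklyRegular (X.presheaf.stalk y) [X.presheaf.germ N y hy a, X.presheaf.germ N y hy b]

theorem germ_mem_maximalIdeal {N : X.Opens} {y : X} (hy : y ∈ N) {a : Γ(X, N)} (h : y ∉ X.basicOpen a) :
    X.presheaf.germ N y hy a ∈ maximalIdeal (X.presheaf.stalk y) :=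
  fun hu => h ((Scheme.mem_basicOpen X a y hy).mpr hu)

theorem exists_regular {W : X.Opens} (hZ : HasPairsNhd W) (z : X) (hz : z ∉ W) :
    ∃ a ∈ maximalIdeal (X.presheaf.stalk z), IsSMulRegular (X.presheaf.stalk z) a := by
  obtain ⟨N, -, a, b, hzN, hza, -, hreg⟩ := hZ z hz
  exact ⟨_, germ_mem_maximalIdeal hzN hza, ((isWeaklyRegular_cons_iff _ _ _).mp (hreg z hzN)).1⟩

theorem map_map' {A B C : X.Opens} (i : B ≤ A) (j : C ≤ B) (r : Γ(X, A)) :
    X.presheaf.map (homOfLE j).op (X.presheaf.map (homOfLE i).op r) =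
      X.presheaf.map (homOfLE (j.trans i)).op r :=
  H8Props.HartogsTwo.map_map_apply i j r

theorem eq_of_res {W : X.Opens} (hZ : HasPairsNhd W) (N : X.Opens) (r r' : Γ(X, N))
    (h : X.presheaf.map (homOfLE (inf_le_left : N ⊓ W ≤ N)).op r =
      X.presheaf.map (homOfLE (inf_le_left : N ⊓ W ≤ N)).op r') : r = r' := by
  refine sub_eq_zero.mp (FibreReg.eq_zero_of_regular N W (r - r') ?_ fun w _ hw => exists_regular hZ w hw)
  rw [map_sub, h, sub_self]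

theorem exists_ideal {V : X.Opens} (hV : IsAffineOpen V) (Ω : X.Opens) :
    ∃ I : Ideal Γ(X, V), ∀ p : PrimeSpectrum Γ(X, V), I ≤ p.asIdeal ↔ hV.fromSpec p ∉ Ω := by
  let S : Set (PrimeSpectrum Γ(X, V)) := {p | hV.fromSpec p ∈ Ω}
  have hS : IsOpen S := Ω.isOpen.preimage hV.fromSpec.continuous
  refine ⟨PrimeSpectrum.vanishingIdeal Sᶜ, fun p => ?_⟩
  show p ∈ PrimeSpectrum.zeroLocus (PrimeSpectrum.vanishingIdeal Sᶜ : Set Γ(X, V)) ↔ p ∈ Sᶜ
  rw [PrimeSpectrum.zeroLocus_vanishingIdeal_eq_closure, hS.isClosed_compl.closure_eq]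

/-- Sections over `W ∩ V`, `V` affine, extend to `V`. -/
theorem exists_extension {W : X.Opens} (hZ : HasPairsNhd W) {V : X.Opens} (hV : IsAffineOpen V)
    (σ : Γ(X, W ⊓ V)) :
    ∃ r : Γ(X, V), X.presheaf.map (homOfLE (inf_le_right : W ⊓ V ≤ V)).op r = σ := by
  classical
  let ι := {p : Σ N : X.Opens, Γ(X, N) // p.1 ≤ V ∧
    X.presheaf.map (homOfLE (inf_le_left : p.1 ⊓ (W ⊓ V) ≤ p.1)).op p.2 =
      X.presheaf.map (homOfLE (inf_le_right : p.1 ⊓ (W ⊓ V) ≤ W ⊓ V)).op σ}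
  let U : ι → X.Opens := fun i => i.1.1
  have hcompat : TopCat.Presheaf.IsCompatible X.sheaf.obj U (fun i => i.1.2) := by
    intro i j
    refine eq_of_res hZ _ _ _ ?_
    have e1 : (U i ⊓ U j) ⊓ W ≤ U i ⊓ (W ⊓ V) :=
      fun x hx => ⟨hx.1.1, hx.2, i.2.1 hx.1.1⟩
    have e2 : (U i ⊓ U j) ⊓ W ≤ U j ⊓ (W ⊓ V) :=
      fun x hx => ⟨hx.1.2, hx.2, j.2.1 hx.1.2⟩
    have hi := congrArg (X.presheaf.map (homOfLE e1).op) i.2.2
    have hj := congrArg (X.presheaf.map (homOfLE e2).op) j.2.2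
    rw [map_map', map_map'] at hi hj
    show X.presheaf.map (homOfLE _).op (X.presheaf.map (homOfLE _).op i.1.2) =
      X.presheaf.map (homOfLE _).op (X.presheaf.map (homOfLE _).op j.1.2)
    rw [map_map', map_map']
    exact hi.trans hj.symm
  let Ω : X.Opens := iSup U
  obtain ⟨rΩ, hrΩ, -⟩ := X.sheaf.existsUnique_gluing' U Ω (fun i => homOfLE (le_iSup U i)) le_rfl _ hcompat
  have hrΩ' : ∀ i : ι, X.presheaf.map (homOfLE (le_iSup U i)).op rΩ = i.1.2 := hrΩ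
  have hWΩ : W ⊓ V ≤ Ω := le_iSup_of_le (⟨⟨W ⊓ V, σ⟩, inf_le_right, by rfl⟩ : ι) le_rfl
  have hσ : X.presheaf.map (homOfLE hWΩ).op rΩ = σ := by
    exact hrΩ' ⟨⟨W ⊓ V, σ⟩, inf_le_right, by rfl⟩
  suffices hVΩ : V ≤ Ω by
    refine ⟨X.presheaf.map (homOfLE hVΩ).op rΩ, ?_⟩
    rw [map_map']
    exact hσ
  by_contra hVΩ
  obtain ⟨z₀, hz₀V, hz₀⟩ := SetLike.not_le_iff_exists.mp hVΩ
  -- a maximal point of `V ∖ Ω`
  obtain ⟨z, hzV, hzΩ, hmin⟩ : ∃ z, z ∈ V ∧ z ∉ Ω ∧ ∀ y, y ⤳ z → y ∉ Ω → y = z := by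
    obtain ⟨I, hmem⟩ := exists_ideal hV Ω
    have hI : I ≤ (hV.primeIdealOf ⟨z₀, hz₀V⟩).asIdeal := by
      rw [hmem, hV.fromSpec_primeIdealOf]
      exact hz₀
    obtain ⟨p, hp, -⟩ := Ideal.exists_minimalPrimes_le hI
    refine ⟨hV.fromSpec ⟨p, hp.1.1⟩, by rw [← SetLike.mem_coe, ← hV.range_fromSpec]; exact ⟨_, rfl⟩,
      (hmem _).mp hp.1.2, fun y hy hyΩ => ?_⟩
    have hyV : y ∈ V := hy.mem_open V.isOpen (by rw [← hV.range_fromSpec]; exact ⟨_, rfl⟩)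
    obtain ⟨q, rfl⟩ : ∃ q : PrimeSpectrum Γ(X, V), hV.fromSpec q = y := ⟨_, hV.fromSpec_primeIdealOf ⟨y, hyV⟩⟩
    have hqp : q.asIdeal ≤ p :=
      (PrimeSpectrum.le_iff_specializes _ _).mpr
        (hV.fromSpec.isOpenEmbedding.isInducing.specializes_iff.mp hy)
    exact congrArg _ (PrimeSpectrum.ext (le_antisymm hqp (hp.2 ⟨q.isPrime, (hmem q).mpr hyΩ⟩ hqp)))
  obtain ⟨N₀, hN₀, a₀, b₀, hzN₀, hza, hzb, hreg⟩ := hZ z fun h => hzΩ (hWΩ ⟨h, hzV⟩)
  obtain ⟨N, hN, hzN, hNle⟩ := exists_isAffineOpen_mem_and_subset (U := N₀ ⊓ V) (x := z) ⟨hzN₀, hzV⟩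
  have hNN₀ : N ≤ N₀ := hNle.trans inf_le_left
  have hNV : N ≤ V := hNle.trans inf_le_right
  let a : Γ(X, N) := X.presheaf.map (homOfLE hNN₀).op a₀
  let b : Γ(X, N) := X.presheaf.map (homOfLE hNN₀).op b₀
  -- near `z`, the basic opens of `a` and `b` lie in `Ω`
  have key : ∀ c : Γ(X, N), z ∉ X.basicOpen c →
      ∃ t : Γ(X, N), z ∈ X.basicOpen t ∧ X.basicOpen t ⊓ X.basicOpen c ≤ Ω := by
    intro c hc
    obtain ⟨J, hJ⟩ := exists_ideal hN Ω
    let pz := hN.primeIdealOf ⟨z, hzN⟩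
    have hpz : hN.fromSpec pz = z := hN.fromSpec_primeIdealOf _
    have hbo : ∀ (t : Γ(X, N)) (p : PrimeSpectrum Γ(X, N)), hN.fromSpec p ∈ X.basicOpen t ↔ t ∉ p.asIdeal :=
      fun t p => by
        show p ∈ hN.fromSpec ⁻¹ᵁ X.basicOpen t ↔ _
        rw [hN.fromSpec_preimage_basicOpen]
        rfl
    obtain ⟨t, n, ht, htn⟩ : ∃ (t : Γ(X, N)) (n : ℕ), t ∉ pz.asIdeal ∧ t * c ^ n ∈ J := by
      by_contra hne
      push Not at hne
      have hdisj : Disjoint (J : Set Γ(X, N)) ↑(pz.asIdeal.primeCompl ⊔ Submonoid.powers c) := by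
        rw [Set.disjoint_left]
        intro r hrJ hr
        obtain ⟨t, ht, _, ⟨n, rfl⟩, rfl⟩ := Submonoid.mem_sup.mp hr
        exact hne t n ht hrJ
      obtain ⟨q, hq, hJq, hqd⟩ := Ideal.exists_le_prime_disjoint J _ hdisj
      have hqz : (⟨q, hq⟩ : PrimeSpectrum Γ(X, N)) ≤ pz := fun r hr => by
        by_contra hr'
        exact Set.disjoint_left.mp hqd hr (Submonoid.mem_sup_left hr')
      have hy := hmin _ (hpz ▸ ((PrimeSpectrum.le_iff_specializes _ _).mp hqz).map hN.fromSpec.continuous)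
        ((hJ ⟨q, hq⟩).mp hJq)
      have hcq : c ∉ q := fun h => Set.disjoint_left.mp hqd h
        (Submonoid.mem_sup_right (Submonoid.mem_powers c))
      exact hc (hy ▸ (hbo c ⟨q, hq⟩).mpr hcq)
    refine ⟨t, hpz ▸ (hbo t pz).mpr ht, fun w hw => ?_⟩
    obtain ⟨p, rfl⟩ : ∃ p, hN.fromSpec p = w :=
      ⟨_, hN.fromSpec_primeIdealOf ⟨w, X.basicOpen_le t hw.1⟩⟩
    by_contra hwΩ
    rcases p.isPrime.mem_or_mem ((hJ p).mpr hwΩ htn) with h | h
    · exact (hbo t p).mp hw.1 h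
    · exact (hbo c p).mp hw.2 (p.isPrime.mem_of_pow_mem n h)
  have hza' : z ∉ X.basicOpen a := fun h => hza (by rw [Scheme.basicOpen_res] at h; exact h.2)
  have hzb' : z ∉ X.basicOpen b := fun h => hzb (by rw [Scheme.basicOpen_res] at h; exact h.2)
  obtain ⟨t₁, ht₁, hΩ₁⟩ := key a hza'
  obtain ⟨t₂, ht₂, hΩ₂⟩ := key b hzb'
  let M : X.Opens := X.basicOpen (t₁ * t₂)
  have hM : IsAffineOpen M := hN.basicOpen _
  have hMN : M ≤ N := X.basicOpen_le _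
  have hMt : M ≤ X.basicOpen t₁ ⊓ X.basicOpen t₂ := (Scheme.basicOpen_mul _ _ _).le
  have hzM : z ∈ M := (Scheme.basicOpen_mul _ t₁ t₂).symm.le ⟨ht₁, ht₂⟩
  let W₀ : X.Opens := (M ⊓ X.basicOpen a) ⊔ (M ⊓ X.basicOpen b)
  have hW₀M : W₀ ≤ M := sup_le inf_le_left inf_le_left
  have hW₀Ω : W₀ ≤ Ω := sup_le ((inf_le_inf_right _ (hMt.trans inf_le_left)).trans hΩ₁)
    ((inf_le_inf_right _ (hMt.trans inf_le_right)).trans hΩ₂)
  have hW₀c : IsCompact (W₀ : Set X) := by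
    have h : ∀ c : Γ(X, N), IsCompact ((M ⊓ X.basicOpen c : X.Opens) : Set X) := fun c => by
      rw [show M ⊓ X.basicOpen c = X.basicOpen (X.presheaf.map (homOfLE hMN).op c) from
        (Scheme.basicOpen_res _ _ _).symm]
      exact (hM.basicOpen _).isCompact
    exact (h a).union (h b)
  have hgerm : ∀ (y : X) (hy : y ∈ N),
      IsWeaklyRegular (X.presheaf.stalk y) [X.presheaf.germ N y hy a, X.presheaf.germ N y hy b] := fun y hy => by
    have := hreg y (hNN₀ hy)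
    simp only [a, b]
    rwa [TopCat.Presheaf.germ_res_apply, TopCat.Presheaf.germ_res_apply]
  have hM₀ : ∀ w : X, w ∈ M → w ∉ W₀ → ∃ a b : X.presheaf.stalk w,
      a ∈ maximalIdeal (X.presheaf.stalk w) ∧ b ∈ maximalIdeal (X.presheaf.stalk w) ∧
        IsWeaklyRegular (X.presheaf.stalk w) [a, b] := fun w hwM hw =>
    ⟨_, _, germ_mem_maximalIdeal (hMN hwM) fun h => hw (Or.inl ⟨hwM, h⟩),
      germ_mem_maximalIdeal (hMN hwM) fun h => hw (Or.inr ⟨hwM, h⟩), hgerm w (hMN hwM)⟩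
  obtain ⟨r, hr⟩ := (H8Props.HartogsTwo.bijective_restrict hM hW₀M hW₀c hM₀).2
    (X.presheaf.map (homOfLE hW₀Ω).op rΩ)
  -- `r` agrees with `rΩ` on `M ∩ Ω`
  have hagree : X.presheaf.map (homOfLE (inf_le_left : M ⊓ Ω ≤ M)).op r =
      X.presheaf.map (homOfLE (inf_le_right : M ⊓ Ω ≤ Ω)).op rΩ := by
    refine sub_eq_zero.mp (FibreReg.eq_zero_of_regular _ W₀ _ ?_ fun w hw hwW => ?_)
    · have e : (M ⊓ Ω) ⊓ W₀ ≤ W₀ := inf_le_right
      have h1 := congrArg (X.presheaf.map (homOfLE e).op) hr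
      rw [map_sub, map_map', map_map', sub_eq_zero]
      erw [map_map', map_map'] at h1
      exact h1
    · obtain ⟨a', b', ha', -, hab⟩ := hM₀ w hw.1 hwW
      exact ⟨a', ha', ((isWeaklyRegular_cons_iff _ _ _).mp hab).1⟩
  suffices hi : X.presheaf.map (homOfLE (inf_le_left : M ⊓ (W ⊓ V) ≤ M)).op r =
      X.presheaf.map (homOfLE (inf_le_right : M ⊓ (W ⊓ V) ≤ W ⊓ V)).op σ from
    hzΩ ((le_iSup U ⟨⟨M, r⟩, hMN.trans hNV, hi⟩ : M ≤ Ω) hzM)
  have e : M ⊓ (W ⊓ V) ≤ M ⊓ Ω := inf_le_inf_left _ hWΩ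
  have h1 := congrArg (X.presheaf.map (homOfLE e).op) hagree
  rw [map_map', map_map'] at h1
  refine h1.trans ?_
  conv_rhs => rw [← hσ]
  rw [map_map']

/-- Restriction from an affine open `V` to `W ∩ V` is bijective. -/
theorem bijective_restrict {W : X.Opens} (hZ : HasPairsNhd W) {V : X.Opens} (hV : IsAffineOpen V) :
    Function.Bijective (X.presheaf.map (homOfLE (inf_le_right : W ⊓ V ≤ V)).op).hom := by
  refine ⟨fun r r' h => eq_of_res hZ V r r' ?_, exists_extension hZ hV⟩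
  have h1 := congrArg (X.presheaf.map (homOfLE (inf_comm V W).le).op) h
  erw [map_map', map_map'] at h1
  exact h1

end Groth.Agent.H26Base.HartogsBig
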