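import Groth.Agent.H11Ample.Tensor
import Groth.Agent.H11Ample.Restrict
import Groth.Agent.H10Coh.FinType2
import Mathlib.AlgebraicGeometry.Properties

/-!
# Base loci of powers of an invertible module
-/

set_option autoImplicit false
set_option linter.style.haveILetI false

noncomputable section

universe u

open CategoryTheory CategoryTheory.Limits AlgebraicGeometry Opposite TopologicalSpace
open Groth.Agent.H11Tilde Groth.Agent.H11Ample

namespace Groth.Agent.H26Base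

variable {X : Scheme.{u}} {L M N : X.Modules}

/-- The complement of the base locus of `L^m`. -/
def genUnion (L : X.Modules) (m : ℕ) : X.Opens := ⨆ g : Γ(CohB1.tensorPow L m, ⊤), gen (CohB1.tensorPow L m) g

theorem mem_genUnion {m : ℕ} {x : X} :
    x ∈ genUnion L m ↔ ∃ g : Γ(CohB1.tensorPow L m, ⊤), x ∈ gen (CohB1.tensorPow L m) g := Opens.mem_iSup

theorem mem_genUnion_iff {m : ℕ} {x : X} :
    x ∈ genUnion L m ↔ ∃ s : Coh.structureModule X ⟶ CohB1.tensorPow L m, x ∈ CohB1.genLocus _ s := by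
  rw [mem_genUnion]
  refine ⟨fun ⟨g, hg⟩ => ⟨homOfGlobal _ g, hg⟩, fun ⟨s, hs⟩ => ⟨SecTwist.val s ⊤, ?_⟩⟩
  rwa [← genLocus_eq_gen]

theorem baseLocus_eq (L : X.Modules) (m : ℕ) :
    {x : X | ∀ s : Coh.structureModule X ⟶ CohB1.tensorPow L m, x ∉ CohB1.genLocus (CohB1.tensorPow L m) s} =
      (genUnion L m : Set X)ᶜ := by
  ext x
  simp only [Set.mem_setOf_eq, Set.mem_compl_iff, SetLike.mem_coe, mem_genUnion_iff, not_exists]

theorem stableBaseLocus_eq (L : X.Modules) :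
    {x : X | ∀ m : ℕ, 0 < m → ∀ s : Coh.structureModule X ⟶ CohB1.tensorPow L m,
      x ∉ CohB1.genLocus (CohB1.tensorPow L m) s} =
      (⋃ m : {m : ℕ // 0 < m}, (genUnion L m.1 : Set X))ᶜ := by
  ext x
  simp only [Set.mem_setOf_eq, Set.mem_compl_iff, Set.mem_iUnion, SetLike.mem_coe, mem_genUnion_iff, not_exists,
    Subtype.forall]

theorem genUnion_iso (e : M ≅ N) {x : X} (h : ∃ g : Γ(M, ⊤), x ∈ gen M g) : ∃ g : Γ(N, ⊤), x ∈ gen N g := by
  obtain ⟨g, hg⟩ := h
  exact ⟨e.hom.app ⊤ g, (gen_iso e.hom g).ge hg⟩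

theorem genUnion_le_mul (hL : PicF.IsInvertible L) (m : ℕ) {n : ℕ} (hn : 0 < n) :
    genUnion L m ≤ genUnion L (m * n) := by
  intro x hx
  obtain ⟨g, hg⟩ := mem_genUnion.1 hx
  obtain ⟨φ, -⟩ := exists_iso_mul hL m n
  refine mem_genUnion.2 (genUnion_iso φ ⟨spow g n, ?_⟩)
  rwa [gen_spow (isInvertible_tensorPow hL m) g n hn]

theorem genUnion_tensorPow (hL : PicF.IsInvertible L) (p m : ℕ) :
    genUnion (CohB1.tensorPow L p) m = genUnion L (p * m) := by
  obtain ⟨φ, -⟩ := exists_iso_mul hL p m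
  ext x
  exact ⟨fun h => mem_genUnion.2 (genUnion_iso φ (mem_genUnion.1 h)),
    fun h => mem_genUnion.2 (genUnion_iso φ.symm (mem_genUnion.1 h))⟩

/-- On a Noetherian space the base loci are stationary along multiples. -/
theorem exists_stable [NoetherianSpace X] (hL : PicF.IsInvertible L) :
    ∃ n₀ : ℕ, 0 < n₀ ∧ ∀ k : ℕ, 0 < k →
      (⋃ m : {m : ℕ // 0 < m}, (genUnion L m.1 : Set X)) = (genUnion L (k * n₀) : Set X) := by
  classical
  obtain ⟨t, ht⟩ := (NoetherianSpace.isCompact (⋃ m : {m : ℕ // 0 < m}, (genUnion L m.1 : Set X))).elim_finite_subcover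
    (fun m : {m : ℕ // 0 < m} => (genUnion L m.1 : Set X)) (fun m => (genUnion L m.1).2) subset_rfl
  refine ⟨∏ m ∈ t, m.1, Finset.prod_pos fun m _ => m.2, fun k hk => subset_antisymm ?_ ?_⟩
  · refine ht.trans (Set.iUnion₂_subset fun m hm => ?_)
    obtain ⟨c, hc⟩ : m.1 ∣ k * ∏ m ∈ t, m.1 := (Finset.dvd_prod_of_mem _ hm).mul_left k
    have hc0 : 0 < c := Nat.pos_of_ne_zero fun h => by
      rw [h, mul_zero] at hc
      exact (Nat.mul_pos hk (Finset.prod_pos fun m _ => m.2)).ne' hc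
    rw [hc]
    exact genUnion_le_mul hL m.1 hc0
  · exact Set.subset_iUnion (fun m : {m : ℕ // 0 < m} => (genUnion L m.1 : Set X))
      ⟨_, Nat.mul_pos hk (Finset.prod_pos fun m _ => m.2)⟩

/-! ### Sections generating somewhere -/

/-- Some global section generates at some point. -/
def HasGenSection (M : X.Modules) : Prop := ∃ g : Γ(M, ⊤), (gen M g : Set X).Nonempty

theorem HasGenSection.iso (e : M ≅ N) (h : HasGenSection M) : HasGenSection N := by
  obtain ⟨g, x, hx⟩ := h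
  obtain ⟨g', hg'⟩ := genUnion_iso e ⟨g, hx⟩
  exact ⟨g', x, hg'⟩

theorem HasGenSection.tensor [IrreducibleSpace X] (hM : PicF.IsInvertible M) (hN : PicF.IsInvertible N)
    (h : HasGenSection M) (h' : HasGenSection N) : HasGenSection (CohB1.tensorMod M N) := by
  obtain ⟨g, hg⟩ := h
  obtain ⟨g', hg'⟩ := h'
  refine ⟨tm g g', ?_⟩
  rw [gen_tm hM hN]
  exact nonempty_preirreducible_inter (gen M g).2 (gen N g').2 hg hg'

theorem HasGenSection.pow (hL : PicF.IsInvertible L) {m n : ℕ} (hn : 0 < n)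
    (h : HasGenSection (CohB1.tensorPow L m)) : HasGenSection (CohB1.tensorPow L (m * n)) := by
  obtain ⟨g, x, hx⟩ := h
  obtain ⟨g', hg'⟩ := mem_genUnion.1 (genUnion_le_mul hL m hn (mem_genUnion.2 ⟨g, hx⟩))
  exact ⟨g', x, hg'⟩

theorem HasGenSection.add [IrreducibleSpace X] (hL : PicF.IsInvertible L) {m n : ℕ}
    (h : HasGenSection (CohB1.tensorPow L m)) (h' : HasGenSection (CohB1.tensorPow L n)) :
    HasGenSection (CohB1.tensorPow L (m + n)) := by
  obtain ⟨φ, -⟩ := exists_iso_add hL m n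
  exact (h.tensor (isInvertible_tensorPow hL m) (isInvertible_tensorPow hL n) h').iso φ

theorem app_map {F G : X.Modules} (φ : F ⟶ G) {U V : X.Opens} (h : V ≤ U) (x : Γ(F, U)) :
    φ.app V (F.presheaf.map (homOfLE h).op x) = G.presheaf.map (homOfLE h).op (φ.app U x) :=
  app_map_apply φ h x

theorem HasGenSection.ne_zero (h : HasGenSection M) : ∃ g : Γ(M, ⊤), g ≠ 0 := by
  obtain ⟨g, x, hx⟩ := h
  refine ⟨g, fun hg => ?_⟩
  have hb := isGen_gen g x hx
  subst hg
  rw [map_zero, map_zero] at hb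
  exact zero_ne_one (hb.1 (a₁ := (0 : X.presheaf.stalk x)) (a₂ := 1) (by simp))

theorem not_isGen_zero {V : X.Opens} {x : X} (hx : x ∈ V) : ¬ IsGen M (0 : Γ(M, V)) := fun h => by
  have hb := h x hx
  rw [map_zero] at hb
  exact zero_ne_one (hb.1 (a₁ := (0 : X.presheaf.stalk x)) (a₂ := 1) (by simp))

theorem hasGenSection_of_ne_zero [IsIntegral X] (hN : PicF.IsInvertible N) {g : Γ(N, ⊤)} (hg : g ≠ 0) :
    HasGenSection N := by
  by_contra hno
  refine hg (eq_of_locally _ _ fun x _ => ?_)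
  obtain ⟨V, f, hxV, hf⟩ := exists_gen hN x
  obtain ⟨c, hc⟩ := exists_coeff hf (N.presheaf.map (homOfLE le_top).op g)
  refine ⟨V, le_top, hxV, ?_⟩
  have hb : X.basicOpen c = ⊥ := Opens.not_nonempty_iff_eq_bot _ |>.1 fun ⟨y, hy⟩ =>
    hno ⟨g, y, ((gen_inf_eq_basicOpen hf g c hc).ge hy).1⟩
  rw [hc, (basicOpen_eq_bot_iff c).1 hb, zero_smul, map_zero]

/-- An injective map of invertible modules, tensored with an invertible module, keeps a section generating
somewhere. -/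
theorem HasGenSection.map_tensor [IsIntegral X] (hM : PicF.IsInvertible M) (hN : PicF.IsInvertible N)
    (hL : PicF.IsInvertible L) (φ : M ⟶ N) (hφ : ∀ U, Function.Injective (φ.app U))
    (h : HasGenSection (CohB1.tensorMod M L)) : HasGenSection (CohB1.tensorMod N L) := by
  let β : Pairing M L (CohB1.tensorMod N L) :=
    { toFun := fun U m n => tm (φ.app U m) n
      add_left := fun U m m' n => by rw [map_add, tm_add_left]
      smul_left := fun U r m n => by rw [Scheme.Modules.Hom.app_smul, tm_smul_left]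
      add_right := fun U m n n' => tm_add_right _ n n'
      smul_right := fun U r m n => tm_smul_right r _ n
      res := fun U V h m n => by rw [tm_res, app_map] }
  obtain ⟨g, x, hx⟩ := h
  obtain ⟨V₁, a₁, hx₁, ha₁⟩ := exists_gen hM x
  obtain ⟨V₂, e₂, hx₂, he₂⟩ := exists_gen hL x
  obtain ⟨V₃, f₃, hx₃, hf₃⟩ := exists_gen hN x
  obtain ⟨V, hV₁, hV₂, hV₃, hVg, hxV⟩ : ∃ V : X.Opens, V ≤ V₁ ∧ V ≤ V₂ ∧ V ≤ V₃ ∧ V ≤ gen _ g ∧ x ∈ V :=
    ⟨V₁ ⊓ V₂ ⊓ V₃ ⊓ gen _ g, inf_le_left.trans (inf_le_left.trans inf_le_left),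
      inf_le_left.trans (inf_le_left.trans inf_le_right), inf_le_left.trans inf_le_right, inf_le_right,
      ⟨⟨⟨hx₁, hx₂⟩, hx₃⟩, hx⟩⟩
  obtain ⟨a, ha⟩ : ∃ a, a = M.presheaf.map (homOfLE hV₁).op a₁ := ⟨_, rfl⟩
  obtain ⟨e, he⟩ : ∃ e, e = L.presheaf.map (homOfLE hV₂).op e₂ := ⟨_, rfl⟩
  have hga : IsGen M a := ha ▸ ha₁.res hV₁
  have hge : IsGen L e := he ▸ he₂.res hV₂
  have hgf : IsGen N (N.presheaf.map (homOfLE hV₃).op f₃) := hf₃.res hV₃
  obtain ⟨c, hc⟩ := exists_coeff hgf (φ.app V a)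
  obtain ⟨d, hd⟩ := exists_coeff (isGen_tm hga hge) ((CohB1.tensorMod M L).presheaf.map (homOfLE le_top).op g)
  have hψ : (tensorDesc β).app V (tm a e) = c • tm (N.presheaf.map (homOfLE hV₃).op f₃) e :=
    ((tensorDesc_tm β a e).trans (congrArg (fun z => tm z e) hc)).trans (tm_smul_left c _ e)
  refine hasGenSection_of_ne_zero (isInvertible_tensor hN hL) (g := (tensorDesc β).app ⊤ g) fun h0 => ?_
  have h1 := app_map (tensorDesc β) (le_top : V ≤ ⊤) g
  rw [h0, map_zero, hd, Scheme.Modules.Hom.app_smul, hψ, smul_smul] at h1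
  have h2 : d * c = 0 := ((isGen_tm hgf hge).bijective le_rfl).1 (a₁ := d * c) (a₂ := 0)
    (by beta_reduce; rw [H10Coh.mres_self, h1, zero_smul])
  haveI : Nonempty V := ⟨⟨x, hxV⟩⟩
  rcases mul_eq_zero.1 h2 with h3 | h3
  · rw [h3, zero_smul] at hd
    have hgg := (isGen_gen g).res hVg
    rw [H10Coh.mres_mres, hd] at hgg
    exact not_isGen_zero hxV hgg
  · rw [h3, zero_smul] at hc
    rw [hφ V (hc.trans (map_zero (φ.app V).hom).symm)] at hga
    exact not_isGen_zero hxV hga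

end Groth.Agent.H26Base
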