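import Groth.Agent.H26Base.PsMorse
import Groth.Agent.H02CA.PowerSeries
import Mathlib.RingTheory.AdicCompletion.Noetherian
import Mathlib.RingTheory.Nakayama
import Mathlib.Algebra.MvPolynomial.PDeriv

/-!
The completion of a hypersurface at a rational point; quadratic parts of power series.
-/

universe u

noncomputable section

namespace Groth.Agent.H26Base.PsHyp

open MvPowerSeries Finsupp
open Groth.Agent.H26Base.PsMorse

section Completion

variable {k : Type u} [Field k] {n : ℕ}

local notation "MP" => MvPolynomial (Fin n) k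
local notation "PS" => MvPowerSeries (Fin n) k

abbrev M (k : Type u) [Field k] (n : ℕ) : Ideal (MvPolynomial (Fin n) k) :=
  MvPolynomial.idealOfVars (Fin n) k

theorem mem_M_iff {p : MP} : p ∈ M k n ↔ MvPolynomial.constantCoeff p = 0 := by
  rw [← pow_one (M k n), MvPolynomial.mem_pow_idealOfVars_iff']
  constructor
  · intro h; simpa [MvPolynomial.constantCoeff_eq] using h 0 (by simp)
  · intro h e he
    have : e = 0 := (degree_eq_zero_iff e).mp (Nat.lt_one_iff.mp he)
    subst this; simpa [MvPolynomial.constantCoeff_eq] using h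

theorem exists_inv_mod {s : MP} (hs : MvPolynomial.constantCoeff s ≠ 0) (N : ℕ) :
    ∃ v : MP, s * v - 1 ∈ M k n ^ N := by
  set a := MvPolynomial.constantCoeff s with ha
  set y : MP := 1 - MvPolynomial.C a⁻¹ * s with hy
  have hyM : y ∈ M k n := by rw [mem_M_iff]; simp [hy, ← ha, inv_mul_cancel₀ hs]
  refine ⟨MvPolynomial.C a⁻¹ * ∑ i ∈ Finset.range N, y ^ i, ?_⟩
  have h1 : s * (MvPolynomial.C a⁻¹ * ∑ i ∈ Finset.range N, y ^ i) =
      (1 - y) * ∑ i ∈ Finset.range N, y ^ i := by
    rw [hy]; ring
  rw [h1, mul_neg_geom_sum, sub_sub_cancel_left]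
  exact neg_mem (Ideal.pow_mem_pow hyM N)

variable (g : MvPolynomial (Fin n) k) {L : Type u} [CommRing L] [IsLocalRing L] [Algebra k L]
  (φ : MvPolynomial (Fin n) k →ₐ[k] L)

/-- hypotheses: `L` is the local ring of `g = 0` at the origin -/
structure IsHypLoc : Prop where
  hg : MvPolynomial.constantCoeff g = 0
  map_g : φ g = 0
  max : IsLocalRing.maximalIdeal L = (M k n).map φ.toRingHom
  surj : ∀ z : L, ∃ p s : MP, MvPolynomial.constantCoeff s ≠ 0 ∧ z * φ s = φ p
  ker : ∀ p : MP, φ p = 0 → ∃ s : MP, MvPolynomial.constantCoeff s ≠ 0 ∧ s * p ∈ Ideal.span {g}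

variable {g φ}

theorem IsHypLoc.map_pow (h : IsHypLoc g φ) (N : ℕ) :
    (M k n ^ N).map φ.toRingHom = IsLocalRing.maximalIdeal L ^ N := by
  rw [Ideal.map_pow, h.max]

theorem IsHypLoc.mem_iff (h : IsHypLoc g φ) (N : ℕ) (p : MP) :
    φ p ∈ IsLocalRing.maximalIdeal L ^ N ↔ p ∈ Ideal.span {g} ⊔ M k n ^ N := by
  constructor
  · intro hp
    rw [← h.map_pow N] at hp
    have key : ∀ z ∈ (M k n ^ N).map φ.toRingHom, ∃ s q : MP,
        MvPolynomial.constantCoeff s ≠ 0 ∧ q ∈ M k n ^ N ∧ z * φ s = φ q := by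
      intro z hz
      induction hz using Submodule.span_induction with
      | mem z hz =>
        obtain ⟨q, hq, rfl⟩ := hz
        exact ⟨1, q, by simp, hq, by simp⟩
      | zero => exact ⟨1, 0, by simp, zero_mem _, by simp⟩
      | add x y _ _ hx hy =>
        obtain ⟨s, q, hs, hq, e⟩ := hx
        obtain ⟨s', q', hs', hq', e'⟩ := hy
        refine ⟨s * s', q * s' + q' * s, by simp [hs, hs'], add_mem
          (Ideal.mul_mem_right _ _ hq) (Ideal.mul_mem_right _ _ hq'), ?_⟩
        simp only [map_mul, map_add, ← e, ← e']; ring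
      | smul a x _ hx =>
        obtain ⟨s, q, hs, hq, e⟩ := hx
        obtain ⟨r, t, ht, e'⟩ := h.surj a
        refine ⟨s * t, q * r, by simp [hs, ht], Ideal.mul_mem_right _ _ hq, ?_⟩
        simp only [map_mul, ← e, ← e', smul_eq_mul]; ring
    obtain ⟨s, q, hs, hq, e⟩ := key _ hp
    obtain ⟨t, ht, he⟩ := h.ker (p * s - q) (by rw [map_sub, map_mul, e, sub_self])
    obtain ⟨v, hv⟩ := exists_inv_mod (s := s * t) (by simp [hs, ht]) N
    have : p = (t * (p * s - q)) * v + (t * v) * q - p * (s * t * v - 1) := by ring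
    rw [this]
    refine sub_mem (add_mem ?_ ?_) (Ideal.mem_sup_right (Ideal.mul_mem_left _ _ hv))
    · exact Ideal.mem_sup_left (Ideal.mul_mem_right _ _ he)
    · exact Ideal.mem_sup_right (Ideal.mul_mem_left _ _ hq)
  · intro hp
    obtain ⟨a, ha, b, hb, rfl⟩ := Submodule.mem_sup.mp hp
    obtain ⟨c, rfl⟩ := Ideal.mem_span_singleton.mp ha
    rw [map_add, map_mul, h.map_g, zero_mul, zero_add, ← h.map_pow N]
    exact Ideal.mem_map_of_mem φ.toRingHom hb

theorem IsHypLoc.exists_poly (h : IsHypLoc g φ) (N : ℕ) (z : L) :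
    ∃ p : MP, z - φ p ∈ IsLocalRing.maximalIdeal L ^ N := by
  obtain ⟨p, s, hs, e⟩ := h.surj z
  obtain ⟨v, hv⟩ := exists_inv_mod hs N
  refine ⟨p * v, ?_⟩
  have : z - φ (p * v) = - (z * φ (s * v - 1)) := by
    rw [map_sub, map_mul, map_mul, map_one, ← e]; ring
  rw [this, ← h.map_pow N]
  exact neg_mem (Ideal.mul_mem_left _ _ (Ideal.mem_map_of_mem φ.toRingHom hv))

/-- `k[[x]]/(g)` is the completion. -/
theorem IsHypLoc.completion (h : IsHypLoc g φ) :
    Nonempty (AdicCompletion (IsLocalRing.maximalIdeal L) L ≃ₐ[k]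
      (PS ⧸ Ideal.span {(g : PS)})) := by
  classical
  set m := IsLocalRing.maximalIdeal L
  let f : ∀ N, PS →ₐ[k] L ⧸ m ^ N := fun N =>
    (Ideal.quotientMapₐ (m ^ N) φ (fun p hp => Ideal.mem_comap.mpr
      ((h.mem_iff N p).mpr (Ideal.mem_sup_right hp)))).comp
      ((truncTotalAlgHom (Fin n) k N).restrictScalars k)
  have hfap : ∀ N (q : PS), f N q = Ideal.Quotient.mk (m ^ N) (φ (truncTotal N q)) := fun _ _ => rfl
  have hf : ∀ {a b : ℕ} (hab : a ≤ b),
      (Ideal.Quotient.factorₐ k (Ideal.pow_le_pow_right hab)).comp (f b) = f a := fun {a b} hab => by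
    refine AlgHom.ext fun p => ?_
    show Ideal.Quotient.mk (m ^ a) (φ (truncTotal b p)) = Ideal.Quotient.mk (m ^ a) (φ (truncTotal a p))
    rw [Ideal.Quotient.eq, ← map_sub]
    exact (h.mem_iff a _).mpr (Ideal.mem_sup_right
      (truncTotal_sub_truncTotal_mem_pow_idealOfVars hab le_rfl p))
  let Ψ : PS →ₐ[k] AdicCompletion m L := AdicCompletion.liftAlgHom m f hf
  have hΨ : ∀ N q, AdicCompletion.evalₐ m N (Ψ q) = Ideal.Quotient.mk (m ^ N) (φ (truncTotal N q)) :=
    fun N q => by rw [AdicCompletion.evalₐ_liftAlgHom, hfap]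
  have htrunc : ∀ (N : ℕ) (p : MP), p - truncTotal N (p : PS) ∈ M k n ^ N := fun N p => by
    rw [MvPolynomial.mem_pow_idealOfVars_iff']
    intro d hd
    rw [MvPolynomial.coeff_sub, coeff_truncTotal _ hd, MvPolynomial.coeff_coe, sub_self]
  have hker : ∀ q : PS, Ψ q = 0 ↔ q ∈ Ideal.span {(g : PS)} := by
    intro q
    constructor
    · intro hq
      have hN : ∀ N, q ∈ Ideal.span {(g : PS)} ⊔ H02CA.PS.vars (Fin n) k ^ N := by
        intro N
        have := hΨ N q
        rw [hq, map_zero, eq_comm, Ideal.Quotient.eq_zero_iff_mem, h.mem_iff] at this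
        have h2 := Ideal.mem_map_of_mem MvPolynomial.coeToMvPowerSeries.ringHom this
        rw [Ideal.map_sup, Ideal.map_span, Set.image_singleton] at h2
        have h3 : (M k n ^ N).map MvPolynomial.coeToMvPowerSeries.ringHom ≤
            H02CA.PS.vars (Fin n) k ^ N := by
          rw [Ideal.map_pow]
          refine Ideal.pow_right_mono ?_ N
          rw [Ideal.map_span, Ideal.span_le]
          rintro _ ⟨_, ⟨i, rfl⟩, rfl⟩
          exact Ideal.subset_span ⟨i, by simp⟩
        have h4 : (truncTotal N q : PS) ∈ Ideal.span {(g : PS)} ⊔ H02CA.PS.vars (Fin n) k ^ N :=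
          (sup_le_sup le_rfl h3) h2
        have h5 := add_mem (Ideal.mem_sup_right (S := Ideal.span {(g : PS)})
          (H02CA.PS.sub_truncTotal_mem N q)) h4
        rwa [sub_add_cancel] at h5
      have hne : H02CA.PS.vars (Fin n) k = IsLocalRing.maximalIdeal PS :=
        (H02CA.PS.maximalIdeal_eq_vars).symm
      haveI : IsNoetherianRing PS := inferInstance
      by_cases htop : Ideal.span {(g : PS)} = ⊤
      · rw [htop]; trivial
      haveI : Nontrivial (PS ⧸ Ideal.span {(g : PS)}) := Ideal.Quotient.nontrivial_iff.mpr htop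
      haveI : IsLocalRing (PS ⧸ Ideal.span {(g : PS)}) :=
        IsLocalRing.of_surjective' _ Ideal.Quotient.mk_surjective
      have hne' : (H02CA.PS.vars (Fin n) k).map (Ideal.Quotient.mk (Ideal.span {(g : PS)})) ≠ ⊤ := by
        intro e
        have := congrArg (Ideal.comap (Ideal.Quotient.mk (Ideal.span {(g : PS)}))) e
        rw [Ideal.comap_map_quotientMk, Ideal.comap_top] at this
        have hle : Ideal.span {(g : PS)} ⊔ H02CA.PS.vars (Fin n) k ≤ IsLocalRing.maximalIdeal PS :=
          sup_le (IsLocalRing.le_maximalIdeal htop) hne.le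
        exact (IsLocalRing.maximalIdeal.isMaximal PS).ne_top (eq_top_iff.mpr (this ▸ hle))
      rw [← Ideal.Quotient.eq_zero_iff_mem, ← Submodule.mem_bot (PS ⧸ Ideal.span {(g : PS)}),
        ← Ideal.iInf_pow_eq_bot_of_isLocalRing _ hne', Submodule.mem_iInf]
      intro N
      rw [← Ideal.map_pow, ← Ideal.mem_comap, Ideal.comap_map_quotientMk]
      exact hN N
    · intro hq
      obtain ⟨c, rfl⟩ := Ideal.mem_span_singleton.mp hq
      rw [map_mul]
      suffices Ψ (g : PS) = 0 by rw [this, zero_mul]
      refine AdicCompletion.ext_evalₐ fun N => ?_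
      rw [hΨ, map_zero, Ideal.Quotient.eq_zero_iff_mem, h.mem_iff]
      have h1 : g - (g - truncTotal N (g : PS)) ∈ Ideal.span {g} ⊔ M k n ^ N :=
        sub_mem (Ideal.mem_sup_left (Ideal.mem_span_singleton_self g)) (Ideal.mem_sup_right (htrunc N g))
      rwa [sub_sub_cancel] at h1
  have hsurj : Function.Surjective Ψ := by
    intro z
    choose a ha using fun N => Ideal.Quotient.mk_surjective (AdicCompletion.evalₐ m N z)
    choose p hp using fun N => h.exists_poly N (a N)
    have hp' : ∀ N, Ideal.Quotient.mk (m ^ N) (φ (p N)) = AdicCompletion.evalₐ m N z := fun N => by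
      rw [← ha N, eq_comm, Ideal.Quotient.eq]; exact hp N
    have hd : ∀ N, ∃ w c : MP, w ∈ M k n ^ N ∧ p (N + 1) - p N = w + c * g := by
      intro N
      have e : Ideal.Quotient.mk (m ^ N) (φ (p (N + 1))) = Ideal.Quotient.mk (m ^ N) (φ (p N)) := by
        rw [hp' N]
        have := congrArg (Ideal.Quotient.factor (Ideal.pow_le_pow_right (Nat.le_succ N) : m ^ (N + 1) ≤ m ^ N)) (hp' (N + 1))
        rw [Ideal.Quotient.factor_mk] at this
        rw [this]
        obtain ⟨y, rfl⟩ := AdicCompletion.mk_surjective m L z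
        rw [AdicCompletion.evalₐ_mk, AdicCompletion.evalₐ_mk, Ideal.Quotient.factor_mk, Ideal.Quotient.eq]
        have hy := y.2 (Nat.le_succ N)
        rw [SModEq.sub_mem, smul_eq_mul, Ideal.mul_top] at hy
        rw [← neg_sub]; exact neg_mem hy
      rw [Ideal.Quotient.eq, ← map_sub, h.mem_iff] at e
      obtain ⟨x, hx, w, hw, he⟩ := Submodule.mem_sup.mp e
      obtain ⟨c, rfl⟩ := Ideal.mem_span_singleton.mp hx
      exact ⟨w, c, hw, by rw [← he]; ring⟩
    choose w c hw hwc using hd
    let q : ℕ → MP := fun N => p N - (∑ j ∈ Finset.range N, c j) * g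
    have hq : ∀ N, q (N + 1) - q N = w N := fun N => by
      have h1 := hwc N
      simp only [q, Finset.sum_range_succ, add_mul]
      linear_combination h1
    have hqstab : ∀ N l, q (N + l) - q N ∈ M k n ^ N := by
      intro N l
      induction l with
      | zero => simp
      | succ l ih =>
        have := add_mem (Ideal.pow_le_pow_right (Nat.le_add_right N l) (hw (N + l))) ih
        rw [← hq] at this
        rwa [sub_add_sub_cancel] at this
    let G : PS := fun e => MvPolynomial.coeff e (q (e.degree + 1))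
    refine ⟨G, AdicCompletion.ext_evalₐ fun N => ?_⟩
    rw [hΨ, ← hp' N, Ideal.Quotient.eq, ← map_sub, h.mem_iff]
    have h1 : truncTotal N G - q N ∈ M k n ^ N := by
      rw [MvPolynomial.mem_pow_idealOfVars_iff']
      intro d hd
      rw [MvPolynomial.coeff_sub, coeff_truncTotal _ hd, sub_eq_zero]
      show MvPolynomial.coeff d (q (d.degree + 1)) = _
      obtain ⟨l, hl⟩ : ∃ l, N = d.degree + 1 + l := ⟨N - (d.degree + 1), by omega⟩
      have := hqstab (d.degree + 1) l
      rw [MvPolynomial.mem_pow_idealOfVars_iff'] at this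
      have := this d (Nat.lt_succ_self _)
      rw [MvPolynomial.coeff_sub, sub_eq_zero] at this
      rw [← this, ← hl]
    have h2 : truncTotal N G - p N =
        (truncTotal N G - q N) + (-(∑ j ∈ Finset.range N, c j)) * g := by simp only [q]; ring
    rw [h2]
    exact add_mem (Ideal.mem_sup_right h1)
      (Ideal.mem_sup_left (Ideal.mul_mem_left _ _ (Ideal.mem_span_singleton_self g)))
  have hk : RingHom.ker Ψ = Ideal.span {(g : PS)} := by
    ext q; exact hker q
  exact ⟨((Ideal.quotientEquivAlgOfEq k hk).symm.trans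
    (Ideal.quotientKerAlgEquivOfSurjective hsurj)).symm⟩

end Completion

section Quad

variable {k : Type u} [CommRing k] {n : ℕ}

local notation "PS" => MvPowerSeries (Fin n) k

/-- linear coefficient -/
abbrev lc (i : Fin n) (f : MvPowerSeries (Fin n) k) : k := coeff (single i 1) f

/-- Hessian at the origin -/
abbrev hess (f : MvPowerSeries (Fin n) k) : Matrix (Fin n) (Fin n) k :=
  VanCyc.polarMatrix (VanCyc.quadPart f)

theorem hess_apply (f : PS) (i j : Fin n) :
    hess f i j = (if i = j then 2 else 1) * coeff (single i 1 + single j 1) f := by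
  simp only [hess, VanCyc.polarMatrix, VanCyc.quadPart]
  rcases lt_trichotomy i j with h | h | h
  · simp [h.ne, h]
  · subst h; simp only [if_true]; rw [← single_add]
  · simp [h.ne', h.ne, not_lt.mpr h.le, h, add_comm]

theorem hess_add (f f' : PS) : hess (f + f') = hess f + hess f' := by
  ext i j; simp only [hess_apply, Matrix.add_apply, map_add, mul_add]

theorem hess_sum {ι : Type*} (s : Finset ι) (f : ι → PS) (i j : Fin n) :
    hess (∑ a ∈ s, f a) i j = ∑ a ∈ s, hess (f a) i j := by
  simp only [hess_apply, map_sum, Finset.mul_sum]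

theorem hess_C_mul (c : k) (f : PS) (i j : Fin n) : hess (C c * f) i j = c * hess f i j := by
  simp only [hess_apply, coeff_C_mul]; ring

theorem hess_eq_zero {f : PS} (hf : Ord 3 f) : hess f = 0 := by
  ext i j
  rw [hess_apply, hf _ (by simp [map_add]), mul_zero]; rfl

theorem hess_congr {f f' : PS} (h : Ord 3 (f - f')) : hess f = hess f' := by
  rw [← sub_add_cancel f f', hess_add, hess_eq_zero h, zero_add]

theorem coeff_single_X_mul (l j : Fin n) (f : PS) :
    coeff (single j 1) (X l * f) = if l = j then constantCoeff f else 0 := by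
  classical
  rw [X, coeff_monomial_mul]
  by_cases h : l = j
  · subst h; simp
  · rw [if_neg, if_neg h]
    intro hle
    have := hle l
    simp [single_eq_of_ne h] at this

theorem lc_mul (a y : PS) (hy : Ord 1 y) (j : Fin n) : lc j (a * y) = constantCoeff a * lc j y := by
  rw [lc, lc]
  conv_lhs => rw [eq_C_add_sum_dec a, add_mul, map_add, coeff_C_mul, Finset.sum_mul, map_sum]
  rw [Finset.sum_eq_zero, add_zero]
  intro l _
  rw [mul_assoc, coeff_single_X_mul]
  split_ifs
  · rw [map_mul, ord_one_iff.mp hy, mul_zero]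
  · rfl

theorem hess_mul {u w : PS} (hu : Ord 1 u) (hw : Ord 1 w) (i j : Fin n) :
    hess (u * w) i j = lc i u * lc j w + lc j u * lc i w := by
  classical
  have hdec : ∀ l, constantCoeff (dec l u) = lc l u := by
    intro l
    rw [← coeff_zero_eq_constantCoeff_apply, coeff_dec, zero_add]; simp
  have hterm : ∀ (l : Fin n) (e : Fin n →₀ ℕ), coeff e (X l * (dec l u * w)) =
      if e l = 0 then 0 else coeff (e - single l 1) (dec l u * w) := by
    intro l e
    rw [X, coeff_monomial_mul]
    by_cases h : e l = 0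
    · rw [if_pos h, if_neg]
      intro hle; have := hle l; simp [h] at this
    · rw [if_neg h, if_pos, one_mul]
      intro a
      rcases eq_or_ne a l with rfl | ha
      · simp; omega
      · simp [single_eq_of_ne ha]
  rw [hess_apply, eq_sum_dec hu, Finset.sum_mul, map_sum]
  simp only [mul_assoc, hterm]
  rw [← eq_sum_dec hu]
  by_cases hij : i = j
  · subst hij
    rw [Finset.sum_eq_single i]
    · rw [if_pos rfl, if_neg (by simp), ← single_add]
      have : (single i (1 + 1) : Fin n →₀ ℕ) - single i 1 = single i 1 := by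
        rw [single_add, add_tsub_cancel_right]
      rw [this, ← hdec i]
      show 2 * lc i (dec i u * w) = _
      rw [lc_mul _ _ hw]; ring
    · intro l _ hl
      rw [if_pos]; simp [single_eq_of_ne hl]
    · simp
  · rw [if_neg hij, one_mul, Finset.sum_eq_add_of_mem i j (Finset.mem_univ _) (Finset.mem_univ _) hij]
    · rw [if_neg (by simp), if_neg (by simp), add_tsub_cancel_left, add_tsub_cancel_right]
      show lc j (dec i u * w) + lc i (dec j u * w) = _
      rw [lc_mul _ _ hw, lc_mul _ _ hw, hdec, hdec]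
    · intro l _ hl
      rw [if_pos]; simp [single_eq_of_ne hl.1, single_eq_of_ne hl.2]

theorem ord_two_iff {f : PS} : Ord 2 f ↔ VanCyc.NoLowTerms f := by
  constructor
  · exact fun h => ⟨ord_one_iff.mp (h.mono one_le_two), fun i => h _ (by simp)⟩
  · rintro ⟨h0, h1⟩ e he
    rcases H02CA.PS.degree_lt_two he with rfl | ⟨l, rfl⟩
    · rw [coeff_zero_eq_constantCoeff_apply]; exact h0
    · exact h1 l

theorem ord_sub_qe {g : PS} (hg : Ord 2 g) : Ord 3 (g - qe (VanCyc.quadPart g) X) := by
  classical
  have hc : ∀ a b, constantCoeff (dec b (dec a g)) = VanCyc.quadPart g a b := by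
    intro a b
    rw [← coeff_zero_eq_constantCoeff_apply, coeff_dec, if_pos (by simp), zero_add, coeff_dec]
    simp only [VanCyc.quadPart]
    rcases lt_trichotomy a b with h | h | h
    · rw [if_pos, if_neg h.ne, if_pos h, add_comm]
      intro l hl; exact single_eq_of_ne (hl.trans h).ne
    · subst h
      rw [if_pos, if_pos rfl, ← single_add]
      intro l hl; exact single_eq_of_ne hl.ne
    · rw [if_neg, if_neg h.ne', if_neg (not_lt.mpr h.le)]
      intro hl; simpa using hl b h
  have hz : ∀ a b, ¬ a ≤ b → VanCyc.quadPart g a b = 0 := by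
    intro a b h
    simp only [VanCyc.quadPart]
    rw [if_neg (fun e => h e.le), if_neg (fun e => h e.le)]
  have expand : g - qe (VanCyc.quadPart g) X =
      ∑ a, ∑ b, X a * (X b * (dec b (dec a g) - C (VanCyc.quadPart g a b))) := by
    conv_lhs => arg 1; rw [eq_sum_dec (hg.mono one_le_two)]
    rw [qe, ← Finset.sum_sub_distrib]
    refine Finset.sum_congr rfl fun a _ => ?_
    conv_lhs => rw [eq_sum_dec (hg.dec a), Finset.mul_sum, ← Finset.sum_sub_distrib]
    refine Finset.sum_congr rfl fun b _ => ?_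
    split_ifs with h
    · ring
    · rw [hz a b h, map_zero]; ring
  rw [expand]
  refine Ord.sum fun a _ => Ord.sum fun b _ => ?_
  exact (ord_X a).mul ((ord_X b).mul (ord_one_iff.mpr (by rw [map_sub, constantCoeff_C, hc, sub_self])))

theorem lc_subst {h : Fin n → PS} (hs : HasSubst h) (hh : ∀ i, Ord 1 (h i)) (f : PS) (j : Fin n) :
    lc j (substAlgHom hs f) = ∑ l, lc l f * lc j (h l) := by
  classical
  conv_lhs => rw [lc, subst_expand]
  rw [map_add, map_sum, coeff_C, if_neg (by simp), zero_add]
  refine Finset.sum_congr rfl fun l _ => ?_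
  rw [mul_comm (h l)]
  show lc j _ = _
  rw [lc_mul _ _ (hh l)]
  congr 1
  rw [subst_expand, map_add, constantCoeff_C, map_sum,
    Finset.sum_eq_zero fun a _ => by rw [map_mul, ord_one_iff.mp (hh a), zero_mul], add_zero,
    ← coeff_zero_eq_constantCoeff_apply, coeff_dec, zero_add]
  simp

theorem hess_subst {h : Fin n → PS} (hs : HasSubst h) (hh : ∀ i, Ord 1 (h i)) {g : PS}
    (hg : Ord 2 g) :
    hess (substAlgHom hs g) =
      (Matrix.of fun i j => lc j (h i)).transpose * hess g * Matrix.of fun i j => lc j (h i) := by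
  classical
  set c := VanCyc.quadPart g with hc
  have h3 := ord_subst hs hh 3 _ (ord_sub_qe hg)
  rw [map_sub] at h3
  rw [hess_congr h3]
  have hC : ∀ a : k, substAlgHom hs (C a) = C a := fun a => (substAlgHom hs).commutes a
  have hq : substAlgHom hs (qe c X) = qe c h := by
    refine (map_qe (substAlgHom hs).toRingHom c X).trans ?_
    refine Finset.sum_congr rfl fun i _ => Finset.sum_congr rfl fun j _ => ?_
    simp only [AlgHom.toRingHom_eq_coe, RingHom.coe_coe, hC, substAlgHom_X]
  rw [hq]
  ext a b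
  have hterm : ∀ i j, hess (if i ≤ j then C (c i j) * h i * h j else 0) a b =
      (if i ≤ j then c i j else 0) * (lc a (h i) * lc b (h j) + lc b (h i) * lc a (h j)) := by
    intro i j
    split_ifs with hle
    · rw [mul_assoc, hess_C_mul, hess_mul (hh i) (hh j)]
    · rw [hess_eq_zero (Ord.zero 3)]; simp
  simp only [qe, hess_sum, hterm, Matrix.mul_apply, Matrix.transpose_apply, Matrix.of_apply,
    mul_add, Finset.sum_add_distrib, Finset.sum_mul]
  conv_lhs => arg 2; rw [Finset.sum_comm]
  rw [← Finset.sum_add_distrib]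
  conv_rhs => rw [Finset.sum_comm]
  refine Finset.sum_congr rfl fun i _ => ?_
  rw [← Finset.sum_add_distrib]
  refine Finset.sum_congr rfl fun j _ => ?_
  have hB : hess g i j = (if i ≤ j then c i j else 0) + (if j ≤ i then c j i else 0) := by
    simp only [hess, VanCyc.polarMatrix, ← hc]
    rcases lt_trichotomy i j with h | h | h
    · simp [h.ne, h, h.le, not_le.mpr h]
    · subst h; simp [two_mul]
    · simp [h.ne', not_lt.mpr h.le, h.le, not_le.mpr h]
  rw [hB]; ring

theorem hess_mul_left (v f : PS) (hf : Ord 2 f) :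
    hess (v * f) = constantCoeff v • hess f := by
  have h3 : Ord 3 (v * f - C (constantCoeff v) * f) := by
    rw [← sub_mul]
    exact (ord_one_iff.mpr (by simp) : Ord 1 (v - C (constantCoeff v))).mul hf
  ext i j
  rw [hess_congr h3, hess_C_mul, Matrix.smul_apply, smul_eq_mul]

end Quad

end Groth.Agent.H26Base.PsHyp

end
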