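import Mathlib.RingTheory.MvPowerSeries.Substitution
import Mathlib.RingTheory.MvPowerSeries.Order
import Mathlib.LinearAlgebra.Matrix.NonsingularInverse
import Groth.Prelude.Def_QuadSing

/-!
Morse lemma for formal power series over a commutative ring: successive-approximation as a
fixed point for the order filtration.
-/

universe u

noncomputable section

namespace Groth.Agent.H26Base.PsMorse

open MvPowerSeries Finsupp

variable {A : Type u} [CommRing A] {n : ℕ}

local notation "P" => MvPowerSeries (Fin n) A

/-- vanishing of all coefficients of degree `< k` -/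
def Ord (k : ℕ) (f : P) : Prop := ∀ e : Fin n →₀ ℕ, e.degree < k → coeff e f = 0

theorem ord_iff {k : ℕ} {f : P} : Ord k f ↔ (k : ℕ∞) ≤ f.order :=
  ⟨fun h => nat_le_order h, fun h _ he =>
    coeff_of_lt_order (lt_of_lt_of_le (by exact_mod_cast he) h)⟩

theorem ord_zero (f : P) : Ord 0 f := fun _ h => absurd h (Nat.not_lt_zero _)

theorem Ord.zero (k : ℕ) : Ord k (0 : P) := fun e _ => map_zero _

theorem Ord.mono {j k : ℕ} {f : P} (h : Ord k f) (hjk : j ≤ k) : Ord j f :=
  fun e he => h e (lt_of_lt_of_le he hjk)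

theorem Ord.add {k : ℕ} {f g : P} (hf : Ord k f) (hg : Ord k g) : Ord k (f + g) :=
  fun e he => by rw [map_add, hf e he, hg e he, add_zero]

theorem Ord.neg {k : ℕ} {f : P} (hf : Ord k f) : Ord k (-f) :=
  fun e he => by rw [map_neg, hf e he, neg_zero]

theorem Ord.sub {k : ℕ} {f g : P} (hf : Ord k f) (hg : Ord k g) : Ord k (f - g) := by
  rw [sub_eq_add_neg]; exact hf.add hg.neg

theorem Ord.sum {k : ℕ} {ι : Type*} {s : Finset ι} {f : ι → P} (hf : ∀ i ∈ s, Ord k (f i)) :
    Ord k (∑ i ∈ s, f i) :=
  fun e he => by rw [map_sum]; exact Finset.sum_eq_zero fun i hi => hf i hi e he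

theorem Ord.mul {j k : ℕ} {f g : P} (hf : Ord j f) (hg : Ord k g) : Ord (j + k) (f * g) := by
  rw [ord_iff] at hf hg ⊢
  exact le_trans (by push_cast; exact add_le_add hf hg) le_order_mul

theorem Ord.mul_left {k : ℕ} (f : P) {g : P} (hg : Ord k g) : Ord k (f * g) := by
  simpa using (ord_zero f).mul hg

theorem Ord.mul_right {k : ℕ} (g : P) {f : P} (hf : Ord k f) : Ord k (f * g) := by
  simpa using hf.mul (ord_zero g)

theorem ord_one_iff {f : P} : Ord 1 f ↔ constantCoeff f = 0 := by
  constructor
  · intro h; rw [← coeff_zero_eq_constantCoeff_apply]; exact h 0 (by simp)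
  · intro h e he
    have : e = 0 := (degree_eq_zero_iff e).mp (Nat.lt_one_iff.mp he)
    subst this; rw [coeff_zero_eq_constantCoeff_apply]; exact h

theorem ord_X (i : Fin n) : Ord 1 (X i : P) := ord_one_iff.mpr (constantCoeff_X i)

theorem eq_of_ord {f g : P} (h : ∀ k, Ord k (f - g)) : f = g := by
  ext e
  have := h (e.degree + 1) e (Nat.lt_succ_self _)
  rwa [map_sub, sub_eq_zero] at this

/-! ### division by the variables -/

/-- the part of `f` led by the variable `X j`, divided by `X j` -/
def dec (j : Fin n) (f : P) : P :=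
  fun e => if ∀ i < j, e i = 0 then coeff (e + single j 1) f else 0

theorem coeff_dec (j : Fin n) (f : P) (e : Fin n →₀ ℕ) :
    coeff e (dec j f) = if ∀ i < j, e i = 0 then coeff (e + single j 1) f else 0 := rfl

theorem dec_sub (j : Fin n) (f g : P) : dec j (f - g) = dec j f - dec j g := by
  ext e
  simp only [coeff_dec, map_sub]
  split_ifs <;> simp

theorem Ord.dec {k : ℕ} {f : P} (hf : Ord (k + 1) f) (j : Fin n) :
    Ord k (PsMorse.dec j f) := by
  intro e he
  rw [coeff_dec]
  split_ifs
  · apply hf
    simp only [map_add, degree_single]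
    omega
  · rfl

theorem eq_C_add_sum_dec (f : P) :
    f = C (constantCoeff f) + ∑ j, X j * dec j f := by
  classical
  ext e
  have hterm : ∀ j, coeff e (X j * dec j f) =
      if e j ≠ 0 ∧ ∀ i < j, e i = 0 then coeff e f else 0 := by
    intro j
    rw [X, coeff_monomial_mul]
    by_cases hj : e j = 0
    · rw [if_neg, if_neg]
      · simp [hj]
      · intro hle; have := hle j; simp [hj] at this
    · have hle : single j 1 ≤ e := by
        intro i
        rcases eq_or_ne i j with rfl | hi
        · simp; omega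
        · simp [single_eq_of_ne hi]
      rw [if_pos hle, one_mul, coeff_dec, tsub_add_cancel_of_le hle]
      congr 1
      refine propext ⟨fun h => ⟨hj, fun i hi => ?_⟩, fun h i hi => ?_⟩
      · have := h i hi
        rw [Finsupp.tsub_apply, single_eq_of_ne hi.ne] at this
        simpa using this
      · rw [Finsupp.tsub_apply, single_eq_of_ne hi.ne]
        simpa using h.2 i hi
  rw [map_add, map_sum, Finset.sum_congr rfl (fun j _ => hterm j), coeff_C]
  by_cases he : e = 0
  · subst he
    simp
  · rw [if_neg he, zero_add]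
    have hne : e.support.Nonempty := Finsupp.support_nonempty_iff.mpr he
    have hmem := e.support.min'_mem hne
    rw [Finsupp.mem_support_iff] at hmem
    have hmin : ∀ i < e.support.min' hne, e i = 0 := by
      intro i hi
      by_contra h
      exact absurd (e.support.min'_le i (Finsupp.mem_support_iff.mpr h)) (not_le.mpr hi)
    rw [Finset.sum_eq_single (e.support.min' hne), if_pos ⟨hmem, hmin⟩]
    · intro j _ hj
      rw [if_neg]
      rintro ⟨h1, h2⟩
      rcases lt_or_gt_of_ne hj with hlt | hlt
      · exact h1 (hmin j hlt)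
      · exact hmem (h2 _ hlt)
    · intro h; exact absurd (Finset.mem_univ _) h

theorem eq_sum_dec {k : ℕ} {f : P} (hf : Ord (k + 1) f) : f = ∑ j, X j * dec j f := by
  conv_lhs => rw [eq_C_add_sum_dec f]
  rw [ord_one_iff.mp (hf.mono (by omega)), map_zero, zero_add]

/-! ### substitution and the order filtration -/

theorem hasSubst_of_ord {a : Fin n → P} (ha : ∀ i, Ord 1 (a i)) : HasSubst a :=
  hasSubst_of_constantCoeff_zero fun i => ord_one_iff.mp (ha i)

theorem subst_expand {a : Fin n → P} (ha : HasSubst a) (f : P) :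
    substAlgHom ha f =
      C (constantCoeff f) + ∑ j, a j * substAlgHom ha (dec j f) := by
  conv_lhs => rw [eq_C_add_sum_dec f]
  rw [map_add, map_sum]
  congr 1
  · exact (substAlgHom ha).commutes (constantCoeff f)
  · refine Finset.sum_congr rfl fun j _ => ?_
    rw [map_mul, substAlgHom_X]

theorem ord_subst {a : Fin n → P} (h : HasSubst a) (ha : ∀ i, Ord 1 (a i)) :
    ∀ (k : ℕ) (f : P), Ord k f → Ord k (substAlgHom h f) := by
  intro k
  induction k with
  | zero => intro f _; exact ord_zero _
  | succ k ih =>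
    intro f hf
    rw [subst_expand, ord_one_iff.mp (hf.mono (by omega)), map_zero, zero_add]
    exact Ord.sum fun j _ => by
      simpa [add_comm] using (ha j).mul (ih _ (hf.dec j))

theorem ord_subst_sub {a b : Fin n → P} (h : HasSubst a) (h' : HasSubst b)
    (hb : ∀ i, Ord 1 (b i)) {d : ℕ} (hab : ∀ i, Ord d (a i - b i)) (ha : ∀ i, Ord 1 (a i)) :
    ∀ (k : ℕ) (f : P), Ord (k + 1) f → Ord (d + k) (substAlgHom h f - substAlgHom h' f) := by
  have key : ∀ f : P, substAlgHom h f - substAlgHom h' f =
      ∑ j, ((a j - b j) * substAlgHom h (dec j f) +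
        b j * (substAlgHom h (dec j f) - substAlgHom h' (dec j f))) := by
    intro f
    conv_lhs => rw [subst_expand h f, subst_expand h' f, add_sub_add_left_eq_sub,
      ← Finset.sum_sub_distrib]
    refine Finset.sum_congr rfl fun j _ => ?_
    ring
  have base : ∀ e ≤ d, ∀ f : P, Ord e (substAlgHom h f - substAlgHom h' f) := by
    intro e
    induction e with
    | zero => intros; exact ord_zero _
    | succ e ih =>
      intro he f
      rw [key]
      refine Ord.sum fun j _ => Ord.add (((hab j).mono he).mul_right _) ?_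
      simpa [add_comm] using (hb j).mul (ih (by omega) (dec j f))
  intro k
  induction k with
  | zero => intro f _; exact base d le_rfl f
  | succ k ih =>
    intro f hf
    rw [key]
    refine Ord.sum fun j _ => Ord.add ?_ ?_
    · exact (hab j).mul (ord_subst h ha (k + 1) _ (hf.dec j))
    · exact ((hb j).mul (ih _ (hf.dec j))).mono (by omega)

/-! ### fixed points -/

theorem exists_fixed (m : ℕ) (T : (Fin n → P) → (Fin n → P))
    (hT : ∀ h, (∀ i, Ord m (h i)) → ∀ i, Ord m (T h i))
    (hc : ∀ h h', (∀ i, Ord m (h i)) → (∀ i, Ord m (h' i)) → ∀ d,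
      (∀ i, Ord d (h i - h' i)) → ∀ i, Ord (d + 1) (T h i - T h' i)) :
    ∃ h, (∀ i, Ord m (h i)) ∧ T h = h := by
  have hs : ∀ k i, Ord m (T^[k] 0 i) := by
    intro k
    induction k with
    | zero => intro i; exact Ord.zero m
    | succ k ih => intro i; rw [Function.iterate_succ_apply']; exact hT _ ih i
  have hstep : ∀ k i, Ord k (T^[k + 1] 0 i - T^[k] 0 i) := by
    intro k
    induction k with
    | zero => intro i; exact ord_zero _
    | succ k ih =>
      intro i
      rw [Function.iterate_succ_apply' T (k + 1), Function.iterate_succ_apply' T k]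
      have := hc _ _ (hs (k + 1)) (hs k) k ih i
      rw [Function.iterate_succ_apply'] at this
      exact this
  have hcauchy : ∀ j l i, Ord j (T^[j + l] 0 i - T^[j] 0 i) := by
    intro j l
    induction l with
    | zero => intro i; simpa using Ord.zero j
    | succ l ih =>
      intro i
      have h2 := ((hstep (j + l) i).mono (Nat.le_add_right j l)).add (ih i)
      rw [sub_add_sub_cancel] at h2
      exact h2
  let h : Fin n → P := fun i e => coeff e (T^[e.degree + 1] 0 i)
  have hh : ∀ i e, coeff e (h i) = coeff e (T^[e.degree + 1] 0 i) := fun _ _ => rfl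
  have happ : ∀ k i, Ord k (h i - T^[k] 0 i) := by
    intro k i e he
    obtain ⟨l, rfl⟩ : ∃ l, k = e.degree + 1 + l := ⟨k - (e.degree + 1), by omega⟩
    have := hcauchy (e.degree + 1) l i e (Nat.lt_succ_self _)
    rw [map_sub, sub_eq_zero] at this
    rw [map_sub, sub_eq_zero, hh, this]
  have hm : ∀ i, Ord m (h i) := fun i e he => hs (e.degree + 1) i e he
  refine ⟨h, hm, funext fun i => eq_of_ord fun k => ?_⟩
  have h1 := hc h (T^[k] 0) hm (hs k) k (happ k) i
  have h2 := happ (k + 1) i
  rw [← Function.iterate_succ_apply' T k 0] at h1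
  have h3 := (h1.sub h2).mono (Nat.le_succ k)
  rwa [sub_sub_sub_cancel_right] at h3

/-- `x ↦ x + h` is an automorphism when `h` has order at least two. -/
theorem exists_equiv (h : Fin n → P) (hh : ∀ i, Ord 2 (h i))
    (hs : HasSubst fun i => X i + h i) :
    ∃ φ : P ≃ₐ[A] P, ∀ f, φ f = substAlgHom hs f := by
  have left : ∀ h : Fin n → P, (∀ i, Ord 2 (h i)) → ∃ g : Fin n → P, (∀ i, Ord 2 (g i)) ∧
      ∀ (hs : HasSubst fun i => X i + h i) (hg : HasSubst fun i => X i + g i) (f : P),
        substAlgHom hg (substAlgHom hs f) = f := by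
    intro h hh
    have o1 : ∀ g : Fin n → P, (∀ i, Ord 2 (g i)) → ∀ i, Ord 1 (X i + g i) :=
      fun g hg i => (ord_X i).add ((hg i).mono (by omega))
    classical
    let T : (Fin n → P) → (Fin n → P) := fun g =>
      if hg : ∀ i, Ord 2 (g i) then
        fun i => - substAlgHom (hasSubst_of_ord (o1 g hg)) (h i)
      else 0
    obtain ⟨g, hg, hfix⟩ := exists_fixed 2 T
      (fun g hg i => by
        simp only [T, dif_pos hg]
        exact (ord_subst _ (o1 g hg) 2 _ (hh i)).neg)
      (fun g g' hg hg' d hd i => by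
        simp only [T, dif_pos hg, dif_pos hg']
        rw [neg_sub_neg]
        exact ord_subst_sub _ _ (o1 g hg) (fun j => by
          rw [add_sub_add_left_eq_sub, ← neg_sub]; exact (hd j).neg) (o1 g' hg') 1 _ (hh i))
    refine ⟨g, hg, fun hs hgs f => ?_⟩
    rw [substAlgHom_comp_substAlgHom_apply]
    have : (fun s => substAlgHom hgs (X s + h s)) = fun s => (X s : P) := by
      funext s
      have := congrFun hfix s
      simp only [T, dif_pos hg] at this
      rw [map_add, substAlgHom_X]
      rw [← this]
      simp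
    simp only [coe_substAlgHom] at this ⊢
    rw [this]
    exact congrFun subst_self f
  obtain ⟨g, hg, hgh⟩ := left h hh
  obtain ⟨k, hk, hkg⟩ := left g hg
  have hgs : HasSubst fun i => X i + g i :=
    hasSubst_of_ord fun i => (ord_X i).add ((hg i).mono (by omega))
  have hks : HasSubst fun i => X i + k i :=
    hasSubst_of_ord fun i => (ord_X i).add ((hk i).mono (by omega))
  have h1 : ∀ f, substAlgHom hgs (substAlgHom hs f) = f := hgh hs hgs
  have h2 : ∀ f, substAlgHom hks (substAlgHom hgs f) = f := hkg hgs hks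
  refine ⟨AlgEquiv.ofAlgHom (substAlgHom hs) (substAlgHom hgs) ?_ ?_, fun f => rfl⟩
  · apply AlgHom.ext; intro f
    show substAlgHom hs (substAlgHom hgs f) = f
    calc substAlgHom hs (substAlgHom hgs f)
        = substAlgHom hks (substAlgHom hgs (substAlgHom hs (substAlgHom hgs f))) := (h2 _).symm
      _ = substAlgHom hks (substAlgHom hgs f) := by rw [h1]
      _ = f := h2 f
  · exact AlgHom.ext h1

/-! ### quadratic forms -/

/-- the quadratic form with table `q` at a vector of power series -/
def qe (q : Fin n → Fin n → A) (v : Fin n → P) : P :=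
  ∑ i, ∑ j, if i ≤ j then C (q i j) * v i * v j else 0

theorem coe_quadPoly (q : Fin n → Fin n → A) :
    ((VanCyc.quadPoly q : MvPolynomial (Fin n) A) : P) = qe q X := by
  rw [← MvPolynomial.coeToMvPowerSeries.ringHom_apply, VanCyc.quadPoly, map_sum]
  refine Finset.sum_congr rfl fun i _ => ?_
  rw [map_sum]
  refine Finset.sum_congr rfl fun j _ => ?_
  split_ifs
  · simp
  · simp

theorem ord_qe {q : Fin n → Fin n → A} {v : Fin n → P} {k : ℕ} (hv : ∀ i, Ord k (v i)) :
    Ord (k + k) (qe q v) := by
  refine Ord.sum fun i _ => Ord.sum fun j _ => ?_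
  split_ifs
  · exact ((hv i).mul_left (C (q i j))).mul (hv j)
  · exact Ord.zero _

theorem ord_qe_sub {q : Fin n → Fin n → A} {v w : Fin n → P} {k d : ℕ}
    (hv : ∀ i, Ord k (v i)) (hw : ∀ i, Ord k (w i)) (hvw : ∀ i, Ord d (v i - w i)) :
    Ord (d + k) (qe q v - qe q w) := by
  rw [qe, qe, ← Finset.sum_sub_distrib]
  refine Ord.sum fun i _ => ?_
  rw [← Finset.sum_sub_distrib]
  refine Ord.sum fun j _ => ?_
  split_ifs
  · have : C (q i j) * v i * v j - C (q i j) * w i * w j =
        C (q i j) * ((v i - w i) * v j + w i * (v j - w j)) := by ring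
    rw [this]
    refine Ord.mul_left _ (Ord.add ((hvw i).mul (hv j)) ?_)
    rw [add_comm]; exact (hw i).mul (hvw j)
  · simpa using Ord.zero _

theorem qe_add (q : Fin n → Fin n → A) (x v : Fin n → P) :
    qe q (fun i => x i + v i) =
      qe q x + (∑ i, v i * ∑ j, C (VanCyc.polarMatrix q i j) * x j) + qe q v := by
  have hB : ∀ i j, (if i ≤ j then C (q i j) * v i * x j else 0) +
      (if j ≤ i then C (q j i) * x j * v i else 0) =
      v i * (C (VanCyc.polarMatrix q i j) * x j) := by
    intro i j
    simp only [VanCyc.polarMatrix]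
    rcases lt_trichotomy i j with h | h | h
    · rw [if_pos h.le, if_neg (not_le.mpr h), if_neg h.ne, if_pos h]; ring
    · subst h; simp only [le_refl, if_true, map_mul, map_ofNat]; ring
    · rw [if_neg (not_le.mpr h), if_pos h.le, if_neg h.ne', if_neg (not_lt.mpr h.le)]; ring
  have hmid : (∑ i, v i * ∑ j, C (VanCyc.polarMatrix q i j) * x j) =
      (∑ i, ∑ j, if i ≤ j then C (q i j) * v i * x j else 0) +
        ∑ i, ∑ j, if i ≤ j then C (q i j) * x i * v j else 0 := by
    rw [Finset.sum_comm (f := fun i j => if i ≤ j then C (q i j) * x i * v j else 0),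
      ← Finset.sum_add_distrib]
    refine Finset.sum_congr rfl fun i _ => ?_
    rw [← Finset.sum_add_distrib, Finset.mul_sum]
    exact Finset.sum_congr rfl fun j _ => (hB i j).symm
  rw [hmid]
  simp only [qe, ← Finset.sum_add_distrib]
  refine Finset.sum_congr rfl fun i _ => Finset.sum_congr rfl fun j _ => ?_
  split_ifs
  · ring
  · simp

theorem map_qe {S : Type*} [CommRing S] (φ : P →+* S) (q : Fin n → Fin n → A) (v : Fin n → P) :
    φ (qe q v) = ∑ i, ∑ j, if i ≤ j then φ (C (q i j)) * φ (v i) * φ (v j) else 0 := by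
  simp only [qe, map_sum]
  refine Finset.sum_congr rfl fun i _ => Finset.sum_congr rfl fun j _ => ?_
  split_ifs <;> simp

/-- The Morse lemma. -/
theorem morse (m : ℕ) (hm : 2 ≤ m) (q : Fin n → Fin n → A) (hq : VanCyc.QuadNondeg q) (a : A)
    (F : P) (hF : Ord (m + 1) (F - (qe q X + C a))) :
    ∃ h : Fin n → P, (∀ i, Ord m (h i)) ∧ ∃ hs : HasSubst (fun i => X i + h i),
      substAlgHom hs F = qe q X + C a := by
  classical
  set R := F - (qe q X + C a) with hR
  let B := VanCyc.polarMatrix q
  have o1 : ∀ g : Fin n → P, (∀ i, Ord m (g i)) → ∀ i, Ord 1 (X i + g i) :=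
    fun g hg i => (ord_X i).add ((hg i).mono (by omega))
  let G : ∀ g : Fin n → P, (∀ i, Ord m (g i)) → P := fun g hg =>
    qe q g + substAlgHom (hasSubst_of_ord (o1 g hg)) R
  have hG : ∀ g hg, Ord (m + 1) (G g hg) := fun g hg =>
    ((ord_qe hg).mono (by omega)).add (ord_subst _ (o1 g hg) _ _ hF)
  let T : (Fin n → P) → (Fin n → P) := fun g =>
    if hg : ∀ i, Ord m (g i) then
      fun i => - ∑ k, C (B⁻¹ k i) * dec k (G g hg)
    else 0
  obtain ⟨h, hh, hfix⟩ := exists_fixed m T
    (fun g hg i => by
      simp only [T, dif_pos hg]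
      exact (Ord.sum fun k _ => Ord.mul_left _ ((hG g hg).dec k)).neg)
    (fun g g' hg hg' d hd i => by
      simp only [T, dif_pos hg, dif_pos hg']
      rw [neg_sub_neg, ← Finset.sum_sub_distrib]
      refine Ord.sum fun k _ => ?_
      rw [← mul_sub, ← dec_sub]
      refine Ord.mul_left _ (Ord.dec ?_ k)
      have hd' : ∀ j, Ord d (g' j - g j) := fun j => by rw [← neg_sub]; exact (hd j).neg
      show Ord (d + 1 + 1) (G g' hg' - G g hg)
      simp only [G, add_sub_add_comm]
      refine Ord.add ((ord_qe_sub hg' hg hd').mono (by omega)) ?_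
      exact ord_subst_sub _ _ (o1 g hg) (fun j => by
        rw [add_sub_add_left_eq_sub]; exact hd' j) (o1 g' hg') 2 _ (hF.mono (by omega)))
  refine ⟨h, hh, hasSubst_of_ord (o1 h hh), ?_⟩
  set hs := hasSubst_of_ord (o1 h hh) with hhs
  have hF' : F = qe q X + C a + R := by simp [hR]
  have hC : ∀ c : A, substAlgHom hs (C c) = C c := fun c => (substAlgHom hs).commutes c
  have hQ : substAlgHom hs (qe q X) = qe q (fun i => X i + h i) := by
    refine (map_qe (substAlgHom hs).toRingHom q X).trans ?_
    refine Finset.sum_congr rfl fun i _ => Finset.sum_congr rfl fun j _ => ?_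
    simp only [AlgHom.toRingHom_eq_coe, RingHom.coe_coe, hC, substAlgHom_X]
  rw [hF', map_add, map_add, hC, hQ, qe_add]
  have hBinv : B⁻¹ * B = 1 := Matrix.nonsing_inv_mul B hq
  have hlin : (∑ i, h i * ∑ j, C (B i j) * (X j : P)) = - G h hh := by
    have hi : ∀ i, h i = - ∑ k, C (B⁻¹ k i) * dec k (G h hh) := by
      intro i
      have := congrFun hfix i
      simp only [T, dif_pos hh] at this
      exact this.symm
    conv_rhs => rw [eq_sum_dec (hG h hh)]
    calc (∑ i, h i * ∑ j, C (B i j) * (X j : P))
        = - ∑ j, ∑ k, C ((B⁻¹ * B) k j) * (X j * dec k (G h hh)) := by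
          simp only [hi, Matrix.mul_apply, map_sum, map_mul, neg_mul, Finset.sum_neg_distrib,
            neg_inj, Finset.mul_sum, Finset.sum_mul]
          rw [Finset.sum_comm]
          refine Finset.sum_congr rfl fun j _ => ?_
          rw [Finset.sum_comm]
          refine Finset.sum_congr rfl fun k _ => Finset.sum_congr rfl fun i _ => ?_
          ring
      _ = - ∑ j, X j * dec j (G h hh) := by
          rw [hBinv]
          congr 1
          refine Finset.sum_congr rfl fun j _ => ?_
          rw [Finset.sum_eq_single j]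
          · simp
          · intro k _ hk; simp [Matrix.one_apply_ne hk]
          · intro h'; exact absurd (Finset.mem_univ _) h'
  have hG' : G h hh = qe q h + substAlgHom hs R := rfl
  rw [hlin, hG']
  ring

/-- induced isomorphism of the quotients -/
theorem quot_equiv (φ : P ≃ₐ[A] P) {F F' : P} (h : φ F = F') :
    Nonempty ((P ⧸ Ideal.span {F}) ≃ₐ[A] (P ⧸ Ideal.span {F'})) :=
  ⟨Ideal.quotientEquivAlg _ _ φ (by rw [Ideal.map_span, Set.image_singleton]; simp [h])⟩

end Groth.Agent.H26Base.PsMorse

end
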