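import Groth.Agent.H26Base.PsMorse
import Mathlib.RingTheory.AdicCompletion.Basic
import Mathlib.RingTheory.LocalRing.MaximalIdeal.Basic
import Mathlib.RingTheory.Ideal.Quotient.Nilpotent

/-!
Translations `x ↦ x + t`, `t` in the ideal, on power series over an adically complete ring.
-/

universe u

noncomputable section

namespace Groth.Agent.H26Base.PsShift

open MvPowerSeries Finsupp PsMorse

variable {A : Type u} [CommRing A] (I : Ideal A) {n : ℕ}

local notation "P" => MvPowerSeries (Fin n) A

/-- reduction modulo `I ^ N` -/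
abbrev red (N : ℕ) : P →+* MvPowerSeries (Fin n) (A ⧸ I ^ N) :=
  MvPowerSeries.map (Ideal.Quotient.mk (I ^ N))

theorem eq_zero_of_mem_pow [IsHausdorff I A] {x : A} (h : ∀ N, x ∈ I ^ N) : x = 0 :=
  IsHausdorff.haus (I := I) (M := A) inferInstance x fun N => by
    rw [SModEq.zero, smul_eq_mul, Ideal.mul_top]; exact h N

theorem red_inj [IsHausdorff I A] {f g : P} (h : ∀ N, red I N f = red I N g) : f = g := by
  ext e
  refine sub_eq_zero.mp (eq_zero_of_mem_pow I fun N => ?_)
  have := congrArg (coeff e) (h N)
  rwa [coeff_map, coeff_map, Ideal.Quotient.eq] at this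

variable {I} in
theorem isNilpotent_mk {N : ℕ} {x : A} (hx : x ∈ I) :
    IsNilpotent (Ideal.Quotient.mk (I ^ N) x) :=
  ⟨N, by rw [← map_pow, Ideal.Quotient.eq_zero_iff_mem]; exact Ideal.pow_mem_pow hx N⟩

theorem hasSubst_shift {S : Type u} [CommRing S] {δ : Fin n → S} (h : ∀ i, IsNilpotent (δ i)) :
    HasSubst fun i => (X i : MvPowerSeries (Fin n) S) + C (δ i) :=
  hasSubst_of_constantCoeff_nilpotent fun i => by simpa using h i

/-- the translate, modulo `I ^ N` -/
def lift (N : ℕ) (t : Fin n → A) (ht : ∀ i, t i ∈ I) :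
    P →+* MvPowerSeries (Fin n) (A ⧸ I ^ N) :=
  (substAlgHom (hasSubst_shift (δ := fun i => Ideal.Quotient.mk (I ^ N) (t i))
    fun i => isNilpotent_mk (ht i))).toRingHom.comp (red I N)

theorem lift_apply (N : ℕ) (t : Fin n → A) (ht : ∀ i, t i ∈ I) (f : P) :
    lift I N t ht f =
      subst (fun i => X i + C (Ideal.Quotient.mk (I ^ N) (t i))) (red I N f) := by
  simp [lift, coe_substAlgHom]

theorem lift_compat {M N : ℕ} (hMN : M ≤ N) (t : Fin n → A) (ht : ∀ i, t i ∈ I) (f : P) :
    MvPowerSeries.map (Ideal.Quotient.factor (Ideal.pow_le_pow_right hMN)) (lift I N t ht f) =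
      lift I M t ht f := by
  rw [lift_apply, lift_apply, map_subst (hasSubst_shift fun i => isNilpotent_mk (ht i))]
  congr 1
  funext i; simp

theorem exists_preimage [IsPrecomplete I A] (g : ∀ N, MvPowerSeries (Fin n) (A ⧸ I ^ N))
    (hg : ∀ M N (h : M ≤ N),
      MvPowerSeries.map (Ideal.Quotient.factor (Ideal.pow_le_pow_right h)) (g N) = g M) :
    ∃ f : P, ∀ N, red I N f = g N := by
  have : ∀ e : Fin n →₀ ℕ, ∃ x : A, ∀ N, Ideal.Quotient.mk (I ^ N) x = coeff e (g N) := by
    intro e
    choose s hs using fun N => Ideal.Quotient.mk_surjective (coeff e (g N))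
    obtain ⟨x, hx⟩ := IsPrecomplete.prec (I := I) (M := A) inferInstance (f := s) (fun {M N} h => by
      rw [SModEq.sub_mem, smul_eq_mul, Ideal.mul_top, ← Ideal.Quotient.eq, hs, ← hg M N h,
        coeff_map, ← hs N, Ideal.Quotient.factor_mk])
    refine ⟨x, fun N => ?_⟩
    have := hx N
    rw [SModEq.sub_mem, smul_eq_mul, Ideal.mul_top, ← Ideal.Quotient.eq, hs] at this
    exact this.symm
  choose x hx using this
  exact ⟨fun e => x e, fun N => by ext e; rw [coeff_map]; exact hx e N⟩

variable [IsAdicComplete I A]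

/-- translation by `t` -/
def shift (t : Fin n → A) (ht : ∀ i, t i ∈ I) (f : P) : P :=
  (exists_preimage I (fun N => lift I N t ht f) fun _ _ h => lift_compat I h t ht f).choose

theorem red_shift (N : ℕ) (t : Fin n → A) (ht : ∀ i, t i ∈ I) (f : P) :
    red I N (shift I t ht f) = lift I N t ht f :=
  (exists_preimage I (fun N => lift I N t ht f) fun _ _ h => lift_compat I h t ht f).choose_spec N

theorem shift_shift (t s : Fin n → A) (ht : ∀ i, t i ∈ I) (hs : ∀ i, s i ∈ I) (f : P) :
    shift I s hs (shift I t ht f) = shift I (t + s) (fun i => I.add_mem (ht i) (hs i)) f := by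
  refine red_inj I fun N => ?_
  rw [red_shift, red_shift, lift_apply, red_shift, lift_apply, lift_apply,
    subst_comp_subst_apply (hasSubst_shift fun i => isNilpotent_mk (ht i))
      (hasSubst_shift fun i => isNilpotent_mk (hs i))]
  congr 1
  funext i
  have hb : HasSubst fun i => (X i : MvPowerSeries (Fin n) (A ⧸ I ^ N)) +
      C (Ideal.Quotient.mk (I ^ N) (s i)) := hasSubst_shift fun i => isNilpotent_mk (hs i)
  have hC : substAlgHom hb (C (Ideal.Quotient.mk (I ^ N) (t i))) =
      C (Ideal.Quotient.mk (I ^ N) (t i)) := (substAlgHom hb).commutes _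
  rw [← coe_substAlgHom hb, map_add, substAlgHom_X, hC, Pi.add_apply, map_add, map_add]
  ring

theorem shift_eq_self (t : Fin n → A) (ht : ∀ i, t i ∈ I) (h0 : t = 0) (f : P) :
    shift I t ht f = f := by
  subst h0
  refine red_inj I fun N => ?_
  rw [red_shift, lift_apply]
  simp only [Pi.zero_apply, map_zero, add_zero]
  exact congrFun subst_self _

/-- translation as an algebra automorphism -/
def shiftEquiv (t : Fin n → A) (ht : ∀ i, t i ∈ I) : P ≃ₐ[A] P where
  toFun := shift I t ht
  invFun := shift I (-t) (fun i => I.neg_mem (ht i))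
  left_inv f := by rw [shift_shift]; exact shift_eq_self I _ _ (add_neg_cancel t) f
  right_inv f := by rw [shift_shift]; exact shift_eq_self I _ _ (neg_add_cancel t) f
  map_mul' f g := red_inj I fun N => by simp [red_shift]
  map_add' f g := red_inj I fun N => by simp [red_shift]
  commutes' a := red_inj I fun N => by
    rw [red_shift]
    have hb : HasSubst fun i => (X i : MvPowerSeries (Fin n) (A ⧸ I ^ N)) +
        C (Ideal.Quotient.mk (I ^ N) (t i)) := hasSubst_shift fun i => isNilpotent_mk (ht i)
    show substAlgHom hb (red I N (C a)) = red I N (C a)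
    simp only [red, MvPowerSeries.map_C]
    exact AlgHom.commutes (substAlgHom hb) (Ideal.Quotient.mk (I ^ N) a)

theorem lift_congr {N : ℕ} {t t' : Fin n → A} (ht : ∀ i, t i ∈ I) (ht' : ∀ i, t' i ∈ I)
    (h : ∀ i, t i - t' i ∈ I ^ N) (f : P) : lift I N t ht f = lift I N t' ht' f := by
  simp only [lift_apply]
  congr 1
  funext i
  rw [Ideal.Quotient.eq.mpr (h i)]

/-! ### the linear coefficients -/

section FirstOrder

variable {S : Type u} [CommRing S]

theorem const_subst_sub {δ : Fin n → S}
    (hs : HasSubst fun i => (X i : MvPowerSeries (Fin n) S) + C (δ i))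
    (h2 : ∀ i j, δ i * δ j = 0) (G : MvPowerSeries (Fin n) S) (i : Fin n) :
    δ i * constantCoeff (substAlgHom hs G) = δ i * constantCoeff G := by
  rw [subst_expand, map_add, constantCoeff_C, mul_add, map_sum, Finset.mul_sum,
    Finset.sum_eq_zero fun j _ => ?_, add_zero]
  rw [map_mul, map_add, constantCoeff_X, constantCoeff_C, zero_add, ← mul_assoc, h2, zero_mul]

theorem coeff_single_subst {δ : Fin n → S}
    (hs : HasSubst fun i => (X i : MvPowerSeries (Fin n) S) + C (δ i))
    (h2 : ∀ i j, δ i * δ j = 0) (G : MvPowerSeries (Fin n) S) (i : Fin n) :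
    coeff (single i 1) (substAlgHom hs G) =
      coeff (single i 1) G + ∑ k, δ k * VanCyc.polarMatrix (VanCyc.quadPart G) i k := by
  classical
  have hne : (single i 1 : Fin n →₀ ℕ) ≠ 0 := by simp
  have hX : ∀ (j : Fin n) (f : MvPowerSeries (Fin n) S),
      coeff (single i 1) (X j * f) = if j = i then constantCoeff f else 0 := by
    intro j f
    rw [X, coeff_monomial_mul]
    by_cases h : j = i
    · subst h; simp
    · rw [if_neg, if_neg h]
      intro hle
      have := hle j
      simp [single_eq_of_ne h] at this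
  have hc1 : ∀ j, constantCoeff (dec j G) = coeff (single j 1) G := by
    intro j
    rw [← coeff_zero_eq_constantCoeff_apply, coeff_dec, zero_add]
    simp
  have hc2 : ∀ j k, constantCoeff (dec k (dec j G)) = VanCyc.quadPart G j k := by
    intro j k
    rw [← coeff_zero_eq_constantCoeff_apply, coeff_dec, if_pos (by simp), zero_add, coeff_dec]
    simp only [VanCyc.quadPart]
    rcases lt_trichotomy j k with h | h | h
    · rw [if_pos, if_neg h.ne, if_pos h, add_comm]
      intro l hl; exact single_eq_of_ne (hl.trans h).ne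
    · subst h
      rw [if_pos, if_pos rfl, ← single_add]
      intro l hl; exact single_eq_of_ne hl.ne
    · rw [if_neg, if_neg h.ne', if_neg (not_lt.mpr h.le)]
      intro hl; simpa using hl k h
  have hterm : ∀ j, coeff (single i 1) (((X j : MvPowerSeries (Fin n) S) + C (δ j)) *
      substAlgHom hs (dec j G)) =
      (if j = i then coeff (single i 1) G + ∑ k, δ k * VanCyc.quadPart G i k else 0) +
        δ j * VanCyc.quadPart G j i := by
    intro j
    have inner : ∀ k, δ k * constantCoeff (substAlgHom hs (dec k (dec j G))) =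
        δ k * VanCyc.quadPart G j k := fun k => by rw [const_subst_sub hs h2, hc2]
    have c0 : constantCoeff (substAlgHom hs (dec j G)) =
        coeff (single j 1) G + ∑ k, δ k * VanCyc.quadPart G j k := by
      rw [subst_expand, map_add, constantCoeff_C, hc1, map_sum]
      congr 1
      refine Finset.sum_congr rfl fun k _ => ?_
      rw [map_mul, map_add, constantCoeff_X, constantCoeff_C, zero_add, inner]
    have c1 : δ j * coeff (single i 1) (substAlgHom hs (dec j G)) =
        δ j * VanCyc.quadPart G j i := by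
      rw [subst_expand, map_add, coeff_C, if_neg hne, zero_add, map_sum, Finset.mul_sum]
      rw [Finset.sum_eq_single i]
      · rw [add_mul, map_add, hX, if_pos rfl, coeff_C_mul, mul_add, ← mul_assoc (δ j), h2,
          zero_mul, add_zero, const_subst_sub hs h2, hc2]
      · intro k _ hk
        rw [add_mul, map_add, hX, if_neg hk, coeff_C_mul, zero_add, ← mul_assoc, h2, zero_mul]
      · intro h; exact absurd (Finset.mem_univ _) h
    rw [add_mul, map_add, hX, coeff_C_mul, c1]
    congr 1
    split_ifs with h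
    · subst h; rw [c0]
    · rfl
  rw [subst_expand, map_add, coeff_C, if_neg hne, zero_add, map_sum,
    Finset.sum_congr rfl (fun j _ => hterm j), Finset.sum_add_distrib,
    Finset.sum_ite_eq' Finset.univ i, if_pos (Finset.mem_univ _), add_assoc,
    ← Finset.sum_add_distrib]
  congr 1
  refine Finset.sum_congr rfl fun k _ => ?_
  rw [← mul_add]
  congr 1
  simp only [VanCyc.polarMatrix, VanCyc.quadPart]
  rcases lt_trichotomy i k with h | h | h
  · simp [h.ne, h.ne', h, not_lt.mpr h.le]
  · subst h; simp [two_mul]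
  · simp [h.ne, h.ne', h, not_lt.mpr h.le]

end FirstOrder

theorem polar_quadPart_map {S : Type u} [CommRing S] (φ : A →+* S) (f : P) (i k : Fin n) :
    φ (VanCyc.polarMatrix (VanCyc.quadPart f) i k) =
      VanCyc.polarMatrix (VanCyc.quadPart (MvPowerSeries.map φ f)) i k := by
  simp only [VanCyc.polarMatrix, VanCyc.quadPart]
  split_ifs <;> simp [map_mul, map_ofNat]

theorem polar_congr (t : Fin n → A) (ht : ∀ i, t i ∈ I) (f : P) (i k : Fin n) :
    VanCyc.polarMatrix (VanCyc.quadPart (shift I t ht f)) i k -
      VanCyc.polarMatrix (VanCyc.quadPart f) i k ∈ I := by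
  apply Ideal.pow_le_self (one_ne_zero)
  rw [← Ideal.Quotient.eq, polar_quadPart_map, polar_quadPart_map]
  congr 2
  show red I 1 _ = red I 1 f
  rw [red_shift, lift_congr I (t' := 0) ht (fun _ => I.zero_mem) (fun i => by simpa using ht i),
    ← red_shift, shift_eq_self I _ _ rfl]

theorem linear_step (k : ℕ) (t δ : Fin n → A) (ht : ∀ i, t i ∈ I)
    (hδ : ∀ i, δ i ∈ I ^ (k + 1)) (f : P) (i : Fin n)
    (ht' : ∀ i, (t + δ) i ∈ I) :
    coeff (single i 1) (shift I (t + δ) ht' f) -
      (coeff (single i 1) (shift I t ht f) +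
        ∑ j, δ j * VanCyc.polarMatrix (VanCyc.quadPart f) i j) ∈ I ^ (k + 2) := by
  have hδI : ∀ i, δ i ∈ I := fun i => Ideal.pow_le_self (by omega) (hδ i)
  set G := shift I t ht f with hG
  have h2 : ∀ i j, Ideal.Quotient.mk (I ^ (k + 2)) (δ i) * Ideal.Quotient.mk (I ^ (k + 2)) (δ j)
      = 0 := by
    intro i j
    rw [← map_mul, Ideal.Quotient.eq_zero_iff_mem]
    have := Ideal.mul_mem_mul (hδ i) (hδ j)
    rw [← pow_add] at this
    exact Ideal.pow_le_pow_right (by omega) this
  have key : coeff (single i 1) (shift I δ hδI G) -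
      (coeff (single i 1) G + ∑ j, δ j * VanCyc.polarMatrix (VanCyc.quadPart G) i j) ∈ I ^ (k + 2) := by
    rw [← Ideal.Quotient.eq, map_add, map_sum, ← coeff_map]
    show coeff (single i 1) (red I (k + 2) (shift I δ hδI G)) = _
    rw [red_shift, lift_apply, ← coe_substAlgHom (hasSubst_shift fun i => isNilpotent_mk (hδI i)),
      coeff_single_subst _ h2]
    simp only [coeff_map, map_mul, polar_quadPart_map]
  rw [show shift I (t + δ) ht' f = shift I δ hδI G from (shift_shift I t δ ht hδI f).symm]
  have rest : ∑ j, δ j * (VanCyc.polarMatrix (VanCyc.quadPart G) i j -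
      VanCyc.polarMatrix (VanCyc.quadPart f) i j) ∈ I ^ (k + 2) := by
    refine Ideal.sum_mem _ fun j _ => ?_
    have := Ideal.mul_mem_mul (hδ j) (polar_congr I t ht f i j)
    rwa [← pow_succ] at this
  have := Ideal.add_mem _ key rest
  simp only [mul_sub, Finset.sum_sub_distrib] at this
  convert this using 1
  ring

/-- A point in the ideal where all first partials vanish. -/
theorem exists_critical (f : P) (hdet : IsUnit (VanCyc.polarMatrix (VanCyc.quadPart f)).det)
    (h0 : ∀ i, coeff (single i 1) f ∈ I) :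
    ∃ (t : Fin n → A) (ht : ∀ i, t i ∈ I), ∀ i, coeff (single i 1) (shift I t ht f) = 0 := by
  classical
  set B := VanCyc.polarMatrix (VanCyc.quadPart f) with hB
  let Ls : ∀ t : Fin n → A, (∀ i, t i ∈ I) → Fin n → A := fun t ht i =>
    coeff (single i 1) (shift I t ht f)
  let step : (Fin n → A) → (Fin n → A) := fun t =>
    if ht : ∀ i, t i ∈ I then t + fun j => - ∑ l, B⁻¹ j l * Ls t ht l else 0
  let s : ℕ → Fin n → A := fun k => step^[k] 0
  have main : ∀ k, ∃ ht : ∀ i, s k i ∈ I,
      (∀ i, Ls (s k) ht i ∈ I ^ (k + 1)) ∧ ∀ i, s (k + 1) i - s k i ∈ I ^ (k + 1) := by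
    have diff : ∀ k (ht : ∀ i, s k i ∈ I), (∀ i, Ls (s k) ht i ∈ I ^ (k + 1)) →
        ∀ i, s (k + 1) i - s k i ∈ I ^ (k + 1) := by
      intro k ht hL i
      have hs : s (k + 1) = step (s k) := Function.iterate_succ_apply' _ _ _
      rw [hs]
      simp only [step, dif_pos ht, Pi.add_apply, add_sub_cancel_left]
      exact neg_mem (Ideal.sum_mem _ fun l _ => Ideal.mul_mem_left _ _ (hL l))
    intro k
    induction k with
    | zero =>
      have ht : ∀ i, s 0 i ∈ I := fun i => I.zero_mem
      have hL : ∀ i, Ls (s 0) ht i ∈ I ^ (0 + 1) := fun i => by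
        rw [zero_add, pow_one]
        show coeff (single i 1) (shift I (s 0) ht f) ∈ I
        rw [shift_eq_self I (s 0) ht rfl]; exact h0 i
      exact ⟨ht, hL, diff 0 ht hL⟩
    | succ k ih =>
      obtain ⟨ht, hL, hd⟩ := ih
      have ht' : ∀ i, s (k + 1) i ∈ I := fun i => by
        have := I.add_mem (Ideal.pow_le_self (by omega) (hd i)) (ht i)
        rwa [sub_add_cancel] at this
      have hL' : ∀ i, Ls (s (k + 1)) ht' i ∈ I ^ (k + 1 + 1) := by
        intro i
        let δ : Fin n → A := fun j => - ∑ l, B⁻¹ j l * Ls (s k) ht l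
        have hs : s (k + 1) = s k + δ := by
          show step^[k + 1] 0 = _
          rw [Function.iterate_succ_apply']
          simp only [step]; exact dif_pos ht
        have hδ : ∀ j, δ j ∈ I ^ (k + 1) := fun j => by
          have := hd j; rwa [hs, Pi.add_apply, add_sub_cancel_left] at this
        have := linear_step I k (s k) δ ht hδ f i (fun j => by rw [← hs]; exact ht' j)
        have hz : Ls (s k) ht i + ∑ j, δ j * B i j = 0 := by
          have : ∑ j, δ j * B i j = - ((B * B⁻¹).mulVec (Ls (s k) ht)) i := by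
            rw [← Matrix.mulVec_mulVec]
            simp only [δ, Matrix.mulVec, dotProduct, ← Finset.sum_neg_distrib]
            refine Finset.sum_congr rfl fun j _ => ?_
            rw [Finset.sum_neg_distrib, neg_mul]; congr 1; ring
          rw [this, Matrix.mul_nonsing_inv B hdet, Matrix.one_mulVec, add_neg_cancel]
        simp only [Ls] at hz ⊢
        rw [← hB, hz, sub_zero] at this
        convert this using 4
      exact ⟨ht', hL', diff _ ht' hL'⟩
  choose hs hL hd using main
  have hcauchy : ∀ i j l, s (j + l) i - s j i ∈ I ^ j := by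
    intro i j l
    induction l with
    | zero => simp
    | succ l ih =>
      have := Ideal.add_mem _ (Ideal.pow_le_pow_right (by omega) (hd (j + l) i) : _ ∈ I ^ j) ih
      rwa [sub_add_sub_cancel] at this
  have hlim : ∀ i, ∃ x, ∀ k, s k i - x ∈ I ^ k := by
    intro i
    obtain ⟨x, hx⟩ := IsPrecomplete.prec (I := I) (M := A) inferInstance (f := fun k => s k i)
      (fun {M N} h => by
        rw [SModEq.sub_mem, smul_eq_mul, Ideal.mul_top]
        obtain ⟨l, rfl⟩ := Nat.exists_eq_add_of_le h
        rw [← neg_sub]; exact neg_mem (hcauchy i M l))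
    exact ⟨x, fun k => by
      have := hx k; rwa [SModEq.sub_mem, smul_eq_mul, Ideal.mul_top] at this⟩
  choose t ht using hlim
  have htI : ∀ i, t i ∈ I := fun i => by
    have := I.sub_mem (hs 1 i) (by simpa using ht i 1)
    simpa using this
  refine ⟨t, htI, fun i => eq_zero_of_mem_pow I fun N => ?_⟩
  have h1 := Ideal.pow_le_pow_right (Nat.le_succ N) (hL N i)
  rw [← Ideal.Quotient.eq_zero_iff_mem] at h1 ⊢
  simp only [Ls] at h1
  rw [← coeff_map] at h1 ⊢
  change coeff _ (red I N _) = 0 at h1 ⊢
  rw [red_shift] at h1 ⊢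
  rw [lift_congr I htI (hs N) (fun j => by rw [← neg_sub]; exact neg_mem (ht j N))]
  exact h1

end Groth.Agent.H26Base.PsShift

end
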